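import Mathlib
import Cfsg.Agent.OddHalf.D8.Sheet
import Cfsg.Agent.EvenType.ChevTwoTits
import Cfsg.Agent.KFacts.ON.Words_m3
import Cfsg.Agent.Omega.Quasithin.Row.ON
import Cfsg.Agent.SignalizersComponents.BalEndJ1
import Cfsg.Agent.KFacts.FiTTh.Has
import Cfsg.Agent.Omega.Quasithin.Row.MTwelve
import Cfsg.Agent.OddHalf.D4.Spor.Fi22
import Cfsg.Agent.TypeM.FactsMcL
import Cfsg.Agent.TypeM.FactsLy
import Cfsg.Agent.KFacts.He.Classes
import Cfsg.Agent.KFacts.ChevTwoSysInst
import Cfsg.Agent.KFacts.ChevTwoInstE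
import Cfsg.Agent.KFacts.RgdAutFacts
import Cfsg.Agent.KFacts.MM.OutC_m3
import Cfsg.Agent.OddHalf.D8.RowCo3
import Cfsg.Agent.Lib.ComponentSolvable
import Cfsg.Agent.S0215
import Cfsg.Agent.FastGrp
import Cfsg.Agent.Prune
set_option linter.all false

section
prune_inst 0x7ffcfefbaff8bddfffff7e7faeffdffdfdfdffffefdff9cbffece3ff2fdf6b0eafe5fbaf8fe152fe1ef6e2b490ba7b53fffffeffeb6bdc7ffffd5ff45ffbee1ff7ffbf8951d5983e0ffc6ffefbf07f8e7f3fffffffffffffffffffffffffffbeffffffffffff

-- part: H335/RT/Lift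
section
prune_inst 0x20000000200000000018001000000020000001000000000010c00d020803140020000000aa900c00100080c4400800000000000002000000000000000118008000000200a07c0c00100010002004000000000000000000000000000000041000000000000
set_option linter.all false
open scoped Cfsg.Agent.FastGrp

-- part: H335/RT/Basic
section
/-!
# Root involutions of "class two" (S3126): the inherited hypothesis (helper335)

`RT D` : `D` is a conjugation invariant set of involutions such that the members of `D` commuting with a member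
of `D` generate a `2`-group of class at most two, and the product of two different commuting members of `D` is in `D`.
It is inherited by subgroups, quotients by normal subgroups of odd order, isomorphic groups.
-/

set_option autoImplicit false

namespace Cfsg.Agent.H335

open Subgroup
open scoped commutatorElement Pointwise

variable {G : Type*} [Group G]

/-- the hypotheses of S3126 for a conjugation invariant set of involutions -/
structure RT (D : Set G) : Prop where
  inv : ∀ x ∈ D, orderOf x = 2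
  conj : ∀ x ∈ D, ∀ g : G, g * x * g⁻¹ ∈ D
  two : ∀ x ∈ D, IsPGroup 2 ↥(closure {y | y ∈ D ∧ Commute y x})
  cls : ∀ x ∈ D, ⁅⁅closure {y | y ∈ D ∧ Commute y x}, closure {y | y ∈ D ∧ Commute y x}⁆,
    closure {y | y ∈ D ∧ Commute y x}⁆ = ⊥
  mul : ∀ x ∈ D, ∀ y ∈ D, x ≠ y → Commute x y → x * y ∈ D

namespace RT

variable {D : Set G}

theorem sq (h : RT D) {x : G} (hx : x ∈ D) : x * x = 1 := by
  rw [← pow_two, ← h.inv x hx, pow_orderOf_eq_one]

theorem ne_one (h : RT D) {x : G} (hx : x ∈ D) : x ≠ 1 := by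
  rintro rfl
  have := h.inv _ hx
  rw [orderOf_one] at this
  omega

theorem inv_eq (h : RT D) {x : G} (hx : x ∈ D) : x⁻¹ = x := inv_eq_of_mul_eq_one_right (h.sq hx)

/-- the elements of order two given by a power of the product -/
theorem conj_mem' (h : RT D) {x : G} (hx : x ∈ D) (g : G) : g⁻¹ * x * g ∈ D := by
  have := h.conj x hx g⁻¹
  rwa [inv_inv] at this

theorem of_isConj (h : RT D) {x y : G} (hx : x ∈ D) (hxy : IsConj x y) : y ∈ D := by
  obtain ⟨g, rfl⟩ := isConj_iff.1 hxy
  exact h.conj x hx g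

/-- an involution inverts the product with another involution -/
theorem inverts {x y : G} (hx : x * x = 1) (hy : y * y = 1) (k : ℤ) :
    x * (x * y) ^ k * x⁻¹ = (x * y) ^ (-k) := by
  have hx' : x⁻¹ = x := inv_eq_of_mul_eq_one_right hx
  have hy' : y⁻¹ = y := inv_eq_of_mul_eq_one_right hy
  have h1 : x * (x * y) * x⁻¹ = (x * y)⁻¹ := by
    rw [mul_inv_rev, hx', hy', ← mul_assoc, hx, one_mul]
  have h2 : ∀ k : ℤ, x * (x * y) ^ k * x⁻¹ = (x * (x * y) * x⁻¹) ^ k := by
    intro k
    exact (conj_zpow).symm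
  rw [h2, h1, inv_zpow']

theorem inverts' {x y : G} (hx : x * x = 1) (hy : y * y = 1) (k : ℤ) :
    y * (x * y) ^ k * y⁻¹ = (x * y) ^ (-k) := by
  have hx' : x⁻¹ = x := inv_eq_of_mul_eq_one_right hx
  have hy' : y⁻¹ = y := inv_eq_of_mul_eq_one_right hy
  have h1 : y * (x * y) * y⁻¹ = (x * y)⁻¹ := by
    rw [mul_inv_rev, hx', hy', mul_assoc, mul_assoc, hy, mul_one]
  have h2 : ∀ k : ℤ, y * (x * y) ^ k * y⁻¹ = (y * (x * y) * y⁻¹) ^ k := by
    intro k
    exact (conj_zpow).symm
  rw [h2, h1, inv_zpow']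

/-- the involution of the dihedral group `⟨x, y⟩` is in `D` -/
theorem mid_mem (h : RT D) {x y : G} (hx : x ∈ D) (hy : y ∈ D) {k : ℕ} (hk : (x * y) ^ k ≠ 1)
    (h2 : (x * y) ^ (2 * k) = 1) : (x * y) ^ k ∈ D ∧ Commute x ((x * y) ^ k) ∧ Commute y ((x * y) ^ k) := by
  set z := (x * y) ^ k with hz
  have hzz : z * z = 1 := by rw [hz, ← pow_add, ← two_mul, h2]
  have hzi : z⁻¹ = z := inv_eq_of_mul_eq_one_right hzz
  have hcx : x * z = z * x := by
    have h3 := inverts (h.sq hx) (h.sq hy) (k : ℤ)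
    rw [zpow_neg, zpow_natCast, ← hz, hzi, mul_inv_eq_iff_eq_mul] at h3
    exact h3
  have hcy : y * z = z * y := by
    have h3 := inverts' (h.sq hx) (h.sq hy) (k : ℤ)
    rw [zpow_neg, zpow_natCast, ← hz, hzi, mul_inv_eq_iff_eq_mul] at h3
    exact h3
  have hxz : x * z ∈ D := by
    rcases Nat.even_or_odd' k with ⟨j, hj | hj⟩
    · have h3 := inverts (h.sq hx) (h.sq hy) (j : ℤ)
      have h4 : x * z = ((x * y) ^ j)⁻¹ * x * (x * y) ^ j := by
        rw [zpow_neg, zpow_natCast, mul_inv_eq_iff_eq_mul] at h3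
        rw [← h3, hz, hj, two_mul, pow_add, mul_assoc]
      rw [h4]
      exact h.conj_mem' hx _
    · have h3 := inverts' (h.sq hx) (h.sq hy) (j : ℤ)
      have h4 : x * z = ((x * y) ^ j)⁻¹ * y * (x * y) ^ j := by
        rw [zpow_neg, zpow_natCast, mul_inv_eq_iff_eq_mul] at h3
        rw [← h3, hz, hj, show 2 * j + 1 = 1 + (j + j) by ring, pow_add, pow_one, pow_add]
        simp only [← mul_assoc]
        rw [h.sq hx, one_mul]
      rw [h4]
      exact h.conj_mem' hy _
  refine ⟨?_, hcx, hcy⟩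
  have h5 : x ≠ x * z := by
    intro h6
    exact hk (mul_left_cancel (a := x) (by rw [mul_one]; exact h6.symm))
  have h6 := h.mul x hx (x * z) hxz h5 (by
    change x * (x * z) = x * z * x
    rw [mul_assoc, hcx])
  rwa [← mul_assoc, h.sq hx, one_mul] at h6

/-- **(C4)** two members of `D` commuting with a member of `D` -/
theorem pow_four (h : RT D) {w x y : G} (hw : w ∈ D) (hx : x ∈ D) (hy : y ∈ D) (hxw : Commute x w)
    (hyw : Commute y w) : (x * y) ^ 4 = 1 := by
  set W := closure {y | y ∈ D ∧ Commute y w} with hW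
  have hxW : x ∈ W := subset_closure ⟨hx, hxw⟩
  have hyW : y ∈ W := subset_closure ⟨hy, hyw⟩
  have h1 : ⁅x, y⁆ = (x * y) ^ 2 := by
    rw [commutatorElement_def, h.inv_eq hx, h.inv_eq hy, pow_two]
    group
  have h2 : ⁅⁅x, y⁆, x⁆ = 1 := by
    have h3 : ⁅⁅x, y⁆, x⁆ ∈ (⊥ : Subgroup G) := by
      rw [← h.cls w hw]
      exact commutator_mem_commutator (commutator_mem_commutator hxW hyW) hxW
    rwa [mem_bot] at h3
  rw [h1, commutatorElement_eq_one_iff_mul_comm] at h2
  have h3 := inverts (h.sq hx) (h.sq hy) (2 : ℕ)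
  rw [zpow_neg, zpow_natCast, ← h2, mul_inv_cancel_right] at h3
  rw [show 4 = 2 + 2 by norm_num, pow_add]
  nth_rewrite 1 [h3]
  rw [inv_mul_cancel]

/-- **(C1)** the order of the product of two members of `D` is odd or divides four -/
theorem order (h : RT D) [Finite G] {x y : G} (hx : x ∈ D) (hy : y ∈ D) :
    Odd (orderOf (x * y)) ∨ (x * y) ^ 4 = 1 := by
  rcases Nat.even_or_odd' (orderOf (x * y)) with ⟨k, hk | hk⟩
  · right
    have hpos := orderOf_pos (x * y)
    obtain ⟨hz, hcx, hcy⟩ := h.mid_mem hx hy (k := k) (by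
      intro h1
      have := Nat.le_of_dvd (by omega) (orderOf_dvd_of_pow_eq_one h1)
      omega) (by rw [← hk, pow_orderOf_eq_one])
    exact h.pow_four hz hx hy hcx hcy
  · left
    exact ⟨k, hk⟩

/-- no member of `D` commutes with `x, y ∈ D`, `|x y|` odd. -/
theorem no_common (h : RT D) {w x y : G} (hw : w ∈ D) (hx : x ∈ D) (hy : y ∈ D) (hxw : Commute x w)
    (hyw : Commute y w) (ho : Odd (orderOf (x * y))) : x = y := by
  have h1 := orderOf_dvd_of_pow_eq_one (h.pow_four hw hx hy hxw hyw)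
  have h2 : Nat.Coprime (orderOf (x * y)) (2 ^ 2) := Nat.Coprime.pow_right _ ho.coprime_two_right
  have h3 : orderOf (x * y) = 1 := Nat.eq_one_of_dvd_coprimes h2 dvd_rfl h1
  rw [orderOf_eq_one_iff] at h3
  rw [mul_eq_one_iff_eq_inv, h.inv_eq hy] at h3
  exact h3

/-! ### Inheritance -/

/-- transport by an isomorphism -/
theorem map_equiv (h : RT D) {H : Type*} [Group H] (e : H ≃* G) : RT {x : H | e x ∈ D} where
  inv x hx := by
    have := h.inv _ hx
    rwa [MulEquiv.orderOf_eq] at this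
  conj x hx g := by
    change e (g * x * g⁻¹) ∈ D
    rw [map_mul, map_mul, map_inv]
    exact h.conj _ hx _
  two x hx := by
    have h1 : (closure {y : H | y ∈ {x : H | e x ∈ D} ∧ Commute y x}).map e.toMonoidHom ≤
        closure {y | y ∈ D ∧ Commute y (e x)} := by
      rw [map_le_iff_le_comap, closure_le]
      rintro y ⟨hy, hyx⟩
      refine subset_closure ⟨hy, ?_⟩
      exact hyx.map e
    have h2 := (h.two _ hx).to_le h1
    intro y
    obtain ⟨k, hk⟩ := h2 ⟨e.toMonoidHom y, mem_map_of_mem _ y.2⟩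
    refine ⟨k, ?_⟩
    apply Subtype.ext
    apply e.injective
    have h3 := congrArg Subtype.val hk
    rw [coe_pow] at h3
    rw [coe_pow, map_pow, coe_one, map_one]
    exact h3
  cls x hx := by
    have h1 : (closure {y : H | y ∈ {x : H | e x ∈ D} ∧ Commute y x}).map e.toMonoidHom ≤
        closure {y | y ∈ D ∧ Commute y (e x)} := by
      rw [map_le_iff_le_comap, closure_le]
      rintro y ⟨hy, hyx⟩
      refine subset_closure ⟨hy, ?_⟩
      exact hyx.map e
    rw [eq_bot_iff]
    intro y hy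
    have h2 := mem_map_of_mem e.toMonoidHom hy
    rw [map_commutator, map_commutator] at h2
    have h3 := commutator_mono (commutator_mono h1 h1) h1 h2
    rw [h.cls _ hx, mem_bot] at h3
    rw [mem_bot]
    exact e.injective (h3.trans (map_one e).symm)
  mul x hx y hy hxy hc := by
    change e (x * y) ∈ D
    rw [map_mul]
    exact h.mul _ hx _ hy (fun h1 => hxy (e.injective h1)) (hc.map e)

/-! ### Fixed points -/

/-- the number of members of `D` in a subgroup is odd or zero -/
theorem odd_card (h : RT D) [Finite G] (P : Subgroup G) {a : G} (haD : a ∈ D) (haP : a ∈ P) :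
    Odd (Nat.card {x : G // x ∈ D ∧ x ∈ P}) := by
  classical
  have hfin : Fintype {x : G // x ∈ D ∧ x ∈ P} := Fintype.ofFinite _
  have hai := h.inv_eq haD
  have haa := h.sq haD
  have hm : ∀ y : G, y ∈ D → Commute y a → y ≠ a → a * y ∈ D := fun y hy hc hn =>
    h.mul a haD y hy (Ne.symm hn) hc.symm
  let f0 : G → G := fun y => if Commute y a then (if y = a then a else a * y) else a * y * a⁻¹
  have hf0 : ∀ y, y ∈ D ∧ y ∈ P → f0 y ∈ D ∧ f0 y ∈ P := by
    rintro y ⟨hy, hyP⟩
    change (if Commute y a then (if y = a then a else a * y) else a * y * a⁻¹) ∈ D ∧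
      (if Commute y a then (if y = a then a else a * y) else a * y * a⁻¹) ∈ P
    split_ifs with h1 h2
    · exact ⟨haD, haP⟩
    · exact ⟨hm y hy h1 h2, P.mul_mem haP hyP⟩
    · exact ⟨h.conj y hy a, P.mul_mem (P.mul_mem haP hyP) (P.inv_mem haP)⟩
  have hff : ∀ y, y ∈ D → f0 (f0 y) = y := by
    intro y hy
    change (if Commute (f0 y) a then (if f0 y = a then a else a * f0 y) else a * f0 y * a⁻¹) = y
    by_cases h1 : Commute y a
    · by_cases h2 : y = a
      · have h3 : f0 y = a := by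
          change (if Commute y a then (if y = a then a else a * y) else a * y * a⁻¹) = a
          rw [if_pos h1, if_pos h2]
        rw [h3, if_pos (Commute.refl a), if_pos rfl, h2]
      · have h3 : f0 y = a * y := by
          change (if Commute y a then (if y = a then a else a * y) else a * y * a⁻¹) = a * y
          rw [if_pos h1, if_neg h2]
        have h4 : Commute (a * y) a := (Commute.refl a).mul_left h1
        have h5 : a * y ≠ a := by
          intro h6
          exact h.ne_one hy (mul_left_cancel (a := a) (by rw [mul_one]; exact h6))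
        rw [h3, if_pos h4, if_neg h5, ← mul_assoc, haa, one_mul]
    · have h3 : f0 y = a * y * a⁻¹ := by
        change (if Commute y a then (if y = a then a else a * y) else a * y * a⁻¹) = a * y * a⁻¹
        rw [if_neg h1]
      have h4 : ¬ Commute (a * y * a⁻¹) a := by
        intro h5
        apply h1
        have h6 : a * y * a⁻¹ * a = a * (a * y * a⁻¹) := h5
        rw [inv_mul_cancel_right, hai, ← mul_assoc, ← mul_assoc, haa, one_mul] at h6
        exact h6.symm
      rw [h3, if_neg h4, hai, ← mul_assoc, ← mul_assoc, haa, one_mul, mul_assoc, haa, mul_one]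
  have hfix : ∀ y, y ∈ D → (f0 y = y ↔ y = a) := by
    intro y hy
    change (if Commute y a then (if y = a then a else a * y) else a * y * a⁻¹) = y ↔ y = a
    split_ifs with h1 h2
    · simp [h2]
    · constructor
      · intro h3
        exact absurd (mul_right_cancel (b := y) (by rw [one_mul]; exact h3)) (h.ne_one haD)
      · exact fun h3 => absurd h3 h2
    · constructor
      · intro h3
        exfalso
        apply h1
        rw [mul_inv_eq_iff_eq_mul] at h3
        exact h3.symm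
      · rintro rfl
        exact absurd (Commute.refl _) h1
  let f' : Function.End {x : G // x ∈ D ∧ x ∈ P} := fun y => ⟨f0 y, hf0 y y.2⟩
  have hp2 : Fact (Nat.Prime 2) := ⟨Nat.prime_two⟩
  have h1 : f' ^ 2 ^ 1 = 1 := by
    rw [pow_one, pow_two]
    funext y
    exact Subtype.ext (hff y y.2.1)
  have h2 := Equiv.Perm.card_fixedPoints_modEq (p := 2) (n := 1) h1
  have h3 : Nat.card (Function.fixedPoints f') = 1 := by
    rw [Nat.card_eq_one_iff_unique]
    constructor
    · constructor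
      rintro ⟨⟨y, hy⟩, hfy⟩ ⟨⟨y', hy'⟩, hfy'⟩
      have h4 := (hfix y hy.1).1 (congrArg Subtype.val hfy)
      have h5 := (hfix y' hy'.1).1 (congrArg Subtype.val hfy')
      subst h4
      subst h5
      rfl
    · exact ⟨⟨⟨a, haD, haP⟩, Subtype.ext ((hfix a haD).2 rfl)⟩⟩
  rw [Nat.card_eq_fintype_card] at h3
  rw [h3] at h2
  rw [Nat.card_eq_fintype_card, Nat.odd_iff]
  exact h2

/-- **(C2')** a `2`-group `Q` normalising `P` centralises a member of `D ∩ P` -/
theorem exists_fixed (h : RT D) [Finite G] (P Q : Subgroup G) {a : G} (haD : a ∈ D) (haP : a ∈ P)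
    (hQ : IsPGroup 2 ↥Q) (hPQ : ∀ g ∈ Q, ∀ x ∈ P, g * x * g⁻¹ ∈ P) :
    ∃ z ∈ D, z ∈ P ∧ ∀ g ∈ Q, Commute g z := by
  classical
  have hp2 : Fact (Nat.Prime 2) := ⟨Nat.prime_two⟩
  let act : MulAction ↥Q {x : G // x ∈ D ∧ x ∈ P} :=
    { smul := fun g x => ⟨g * x * (g : G)⁻¹, h.conj _ x.2.1 _, hPQ g g.2 _ x.2.2⟩
      one_smul := fun x => Subtype.ext (by
        change ((1 : ↥Q) : G) * x * ((1 : ↥Q) : G)⁻¹ = x
        rw [coe_one, one_mul, inv_one, mul_one])
      mul_smul := fun g k x => Subtype.ext (by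
        change ((g * k : ↥Q) : G) * x * ((g * k : ↥Q) : G)⁻¹ = g * (k * x * (k : G)⁻¹) * (g : G)⁻¹
        rw [coe_mul, mul_inv_rev]
        simp only [mul_assoc]) }
  have h1 : ¬ 2 ∣ Nat.card {x : G // x ∈ D ∧ x ∈ P} := by
    have h2 := h.odd_card P haD haP
    rw [Nat.odd_iff] at h2
    omega
  obtain ⟨⟨z, hzD, hzP⟩, hz⟩ := hQ.nonempty_fixed_point_of_prime_not_dvd_card _ h1
  refine ⟨z, hzD, hzP, ?_⟩
  intro g hg
  have h2 := congrArg Subtype.val (hz ⟨g, hg⟩)
  change g * z * g⁻¹ = z at h2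
  rw [mul_inv_eq_iff_eq_mul] at h2
  exact h2

/-- `D` contains an element of the centre of a given Sylow `2`-subgroup -/
theorem exists_central (h : RT D) [Finite G] (T : Sylow 2 G) (hne : D.Nonempty) :
    ∃ z ∈ D, z ∈ (T : Subgroup G) ∧ ∀ g ∈ (T : Subgroup G), Commute g z := by
  have hp2 : Fact (Nat.Prime 2) := ⟨Nat.prime_two⟩
  obtain ⟨a, ha⟩ := hne
  have h1 : IsPGroup 2 ↥(zpowers a) := by
    rw [IsPGroup.iff_card]
    exact ⟨1, by rw [Nat.card_zpowers, h.inv a ha, pow_one]⟩
  obtain ⟨S, hS⟩ := h1.exists_le_sylow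
  obtain ⟨g, hg⟩ := MulAction.exists_smul_eq G S T
  have h2 : g * a * g⁻¹ ∈ (T : Subgroup G) := by
    rw [← hg]
    have h3 : a ∈ (S : Subgroup G) := hS (mem_zpowers a)
    rw [Sylow.coe_subgroup_smul]
    exact (Subgroup.smul_mem_pointwise_smul_iff (a := MulAut.conj g)).2 h3
  exact h.exists_fixed T T (h.conj a ha g) h2 T.isPGroup' fun g hg x hx =>
    T.mul_mem (T.mul_mem hg hx) (T.inv_mem hg)

/-- **(C2)** for `z ∈ D` in the centre of a Sylow `2`-subgroup `T`: `C_D(z) ⊆ T` -/
theorem mem_sylow (h : RT D) [Finite G] (T : Sylow 2 G) {z : G} (hz : z ∈ D)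
    (hzT : ∀ g ∈ (T : Subgroup G), Commute g z) {y : G} (hy : y ∈ D) (hyz : Commute y z) : y ∈ (T : Subgroup G) := by
  have hp2 : Fact (Nat.Prime 2) := ⟨Nat.prime_two⟩
  set V := closure {y | y ∈ D ∧ Commute y z} with hV
  have h1 : (T : Subgroup G) ≤ normalizer (V : Set G) := by
    intro g hg
    rw [mem_normalizer_iff'']
    have key : ∀ g : G, Commute g z → ∀ v ∈ V, g * v * g⁻¹ ∈ V := by
      intro g hgz v hv
      have h3 : V.map (MulAut.conj g).toMonoidHom ≤ V := by
        rw [hV, map_le_iff_le_comap, closure_le]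
        rintro u ⟨hu, huz⟩
        refine subset_closure ⟨h.conj u hu g, ?_⟩
        change Commute (g * u * g⁻¹) z
        exact (hgz.mul_left huz).mul_left hgz.inv_left
      exact h3 (mem_map_of_mem _ hv)
    intro v
    constructor
    · intro hv
      have h4 := key g⁻¹ (hzT g hg).inv_left v hv
      rwa [inv_inv] at h4
    · intro hv
      have h4 := key g (hzT g hg) _ hv
      rwa [← mul_assoc, ← mul_assoc, mul_inv_cancel, one_mul, mul_assoc, mul_inv_cancel, mul_one] at h4
  have h2 : IsPGroup 2 ↥((T : Subgroup G) ⊔ V) :=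
    IsPGroup.to_sup_of_normal_right' T.isPGroup' (h.two z hz) h1
  have h3 : (T : Subgroup G) ⊔ V = T := T.is_maximal' h2 le_sup_left
  have h4 : y ∈ V := subset_closure ⟨hy, hyz⟩
  rw [← h3]
  exact (le_sup_right : V ≤ (T : Subgroup G) ⊔ V) h4

/-- passing to the quotient by a normal subgroup of odd order -/
theorem quotient (h : RT D) [Finite G] (N : Subgroup G) [N.Normal] (hN : Odd (Nat.card ↥N)) :
    RT ((QuotientGroup.mk' N) '' D) := by
  set π := QuotientGroup.mk' N with hπ
  have hker : ∀ x : G, π x = 1 ↔ x ∈ N := fun x => by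
    rw [hπ]; exact QuotientGroup.eq_one_iff x
  have hodd : ∀ x ∈ N, Odd (orderOf x) := by
    intro x hx
    exact Odd.of_dvd_nat hN (Subgroup.orderOf_dvd_natCard N hx)
  -- commuting in the quotient
  have hcomm : ∀ x ∈ D, ∀ y ∈ D, Commute (π y) (π x) → π y = π x ∨ Commute y x := by
    intro x hx y hy hc
    have h1 : (y * x) ^ 2 ∈ N := by
      rw [← hker, map_pow, map_mul, pow_two]
      calc π y * π x * (π y * π x) = π y * (π x * π y) * π x := by simp only [mul_assoc]
        _ = π y * (π y * π x) * π x := by rw [hc.eq]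
        _ = (π y * π y) * (π x * π x) := by simp only [mul_assoc]
        _ = 1 := by rw [← map_mul, ← map_mul, h.sq hx, h.sq hy, map_one, one_mul]
    have h2 := hodd _ h1
    rcases h.order hy hx with h3 | h3
    · left
      obtain ⟨k, hk⟩ := h3
      have h4 : (y * x) ∈ N := by
        have h5 : (y * x) = ((y * x) ^ 2) ^ (k + 1) := by
          rw [← pow_mul, show 2 * (k + 1) = (2 * k + 1) + 1 by ring, pow_succ, ← hk, pow_orderOf_eq_one, one_mul]
        rw [h5]
        exact N.pow_mem h1 _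
      rw [← hker, map_mul] at h4
      have h5 := h4
      rw [mul_eq_one_iff_eq_inv, ← map_inv, h.inv_eq hx] at h5
      exact h5
    · right
      have h4 : (y * x) ^ 2 = 1 := by
        have h5 : ((y * x) ^ 2) ^ 2 = 1 := by rw [← pow_mul]; exact h3
        have h6 : orderOf ((y * x) ^ 2) ∣ 2 := orderOf_dvd_of_pow_eq_one h5
        rw [← orderOf_eq_one_iff]
        rcases (Nat.dvd_prime Nat.prime_two).1 h6 with h7 | h7
        · exact h7
        · rw [h7] at h2
          exact absurd h2 (by decide)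
      have h5 : y * x * (y * x) = 1 := by rw [← pow_two, h4]
      have h6 : y * x = (y * x)⁻¹ := eq_inv_of_mul_eq_one_left h5
      rw [mul_inv_rev, h.inv_eq hx, h.inv_eq hy] at h6
      exact h6
  have hle : ∀ x ∈ D, closure {y | y ∈ π '' D ∧ Commute y (π x)} ≤
      (closure {y | y ∈ D ∧ Commute y x}).map π := by
    intro x hx
    rw [closure_le]
    rintro _ ⟨⟨y, hy, rfl⟩, hc⟩
    rcases hcomm x hx y hy hc with h1 | h1
    · rw [h1]
      exact mem_map_of_mem π (subset_closure ⟨hx, Commute.refl x⟩)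
    · exact mem_map_of_mem π (subset_closure ⟨hy, h1⟩)
  refine ⟨?_, ?_, ?_, ?_, ?_⟩
  · rintro _ ⟨x, hx, rfl⟩
    have h1 : orderOf (π x) ∣ 2 := orderOf_dvd_of_pow_eq_one (by rw [← map_pow, pow_two, h.sq hx, map_one])
    rcases (Nat.dvd_prime Nat.prime_two).1 h1 with h2 | h2
    · rw [orderOf_eq_one_iff, hker] at h2
      have h3 := hodd x h2
      rw [h.inv x hx] at h3
      exact absurd h3 (by decide)
    · exact h2
  · rintro _ ⟨x, hx, rfl⟩ g
    obtain ⟨g, rfl⟩ := QuotientGroup.mk'_surjective N g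
    exact ⟨g * x * g⁻¹, h.conj x hx g, by rw [map_mul, map_mul, map_inv]⟩
  · rintro _ ⟨x, hx, rfl⟩
    exact ((h.two x hx).map π).to_le (hle x hx)
  · rintro _ ⟨x, hx, rfl⟩
    rw [eq_bot_iff]
    refine (commutator_mono (commutator_mono (hle x hx) (hle x hx)) (hle x hx)).trans ?_
    rw [← map_commutator, ← map_commutator, h.cls x hx, Subgroup.map_bot]
  · rintro _ ⟨x, hx, rfl⟩ _ ⟨y, hy, rfl⟩ hne hc
    rcases hcomm x hx y hy hc.symm with h1 | h1
    · exact absurd h1.symm hne
    · exact ⟨x * y, h.mul x hx y hy (fun h2 => hne (by rw [h2])) h1.symm, map_mul _ _ _⟩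

end RT

end Cfsg.Agent.H335
end

-- part: H335/RT/Lift
section
/-!
# Lifting `RT` through a central extension by a group of odd order; the transvection lemma (helper335)
-/

set_option autoImplicit false

namespace Cfsg.Agent.H335

open Subgroup
open scoped commutatorElement

variable {G : Type*} [Group G]

/-- a group generated by involutions which is a `2`-group modulo its centre is a `2`-group -/
theorem isPGroup_of_central {V : Type*} [Group V] [Finite V] {S : Set V} (hS : closure S = ⊤)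
    (h2 : ∀ x ∈ S, x * x = 1) (hc : ∀ g : V, ∃ k : ℕ, g ^ 2 ^ k ∈ center V) : IsPGroup 2 V := by
  have hp2 : Fact (Nat.Prime 2) := ⟨Nat.prime_two⟩
  have h3 : IsPGroup 2 (V ⧸ center V) := by
    intro g
    obtain ⟨g, rfl⟩ := QuotientGroup.mk'_surjective _ g
    obtain ⟨k, hk⟩ := hc g
    refine ⟨k, ?_⟩
    rw [← map_pow]
    exact (QuotientGroup.eq_one_iff _).2 hk
  obtain ⟨k, hk⟩ := IsPGroup.iff_card.1 h3
  have h4 : (center V).index = 2 ^ k := by rw [index_eq_card, hk]
  let f : V →* center V :=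
    { toFun := fun g => (MonoidHom.transferCenterPow V g) ^ 2
      map_one' := by rw [map_one, one_pow]
      map_mul' := fun a b => by
        rw [map_mul]
        refine Commute.mul_pow ?_ 2
        exact Subtype.ext (mem_center_iff.1 (MonoidHom.transferCenterPow V b).2 _) }
  have hf : ∀ g : V, ((f g : center V) : V) = g ^ 2 ^ (k + 1) := by
    intro g
    change (((MonoidHom.transferCenterPow V g) ^ 2 : center V) : V) = _
    rw [coe_pow, MonoidHom.transferCenterPow_apply, h4, ← pow_mul, pow_succ]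
  have h5 : f.ker = ⊤ := by
    rw [eq_top_iff, ← hS, closure_le]
    intro x hx
    rw [SetLike.mem_coe, MonoidHom.mem_ker]
    apply Subtype.ext
    rw [hf, coe_one, pow_succ', pow_mul, pow_two, h2 x hx, one_pow]
  intro g
  refine ⟨k + 1, ?_⟩
  rw [← hf]
  have h6 : g ∈ f.ker := by rw [h5]; exact mem_top g
  rw [MonoidHom.mem_ker] at h6
  rw [h6, coe_one]

/-- **lifting** -/
theorem RT.lift [Finite G] (N : Subgroup G) [N.Normal] (hc : N ≤ center G) (hN : Odd (Nat.card ↥N))
    {D : Set (G ⧸ N)} (h : RT D) : RT {x : G | x * x = 1 ∧ QuotientGroup.mk' N x ∈ D} := by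
  set π := QuotientGroup.mk' N with hπ
  have hker : ∀ x : G, π x = 1 ↔ x ∈ N := fun x => by
    rw [hπ]; exact QuotientGroup.eq_one_iff x
  have hodd : ∀ x ∈ N, x * x = 1 → x = 1 := by
    intro x hx h2
    have h3 : Odd (orderOf x) := Odd.of_dvd_nat hN (Subgroup.orderOf_dvd_natCard N hx)
    have h4 : orderOf x ∣ 2 := orderOf_dvd_of_pow_eq_one (by rw [pow_two, h2])
    rcases (Nat.dvd_prime Nat.prime_two).1 h4 with h5 | h5
    · exact orderOf_eq_one_iff.1 h5
    · rw [h5] at h3
      exact absurd h3 (by decide)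
  have hcomm : ∀ x y : G, x * x = 1 → y * y = 1 → Commute (π x) (π y) → Commute x y := by
    intro x y hx hy hxy
    have hx' : x⁻¹ = x := inv_eq_of_mul_eq_one_right hx
    have hy' : y⁻¹ = y := inv_eq_of_mul_eq_one_right hy
    have h1 : ⁅x, y⁆ ∈ N := by
      rw [← hker, map_commutatorElement, commutatorElement_eq_one_iff_mul_comm]
      exact hxy
    have h2 : ⁅x, y⁆ * ⁅x, y⁆ = 1 := by
      have h3 : ⁅x, y⁆ * y = y * ⁅x, y⁆ := (mem_center_iff.1 (hc h1) y).symm
      have h4 : (⁅x, y⁆ * y) * (⁅x, y⁆ * y) = 1 := by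
        have h5 : ⁅x, y⁆ * y = x * y * x⁻¹ := by
          rw [commutatorElement_def]; group
        rw [h5, mul_assoc, mul_assoc, ← mul_assoc x⁻¹, ← mul_assoc x⁻¹, inv_mul_cancel, one_mul, ← mul_assoc y,
          hy, one_mul, mul_inv_cancel]
      rw [mul_assoc, ← mul_assoc y, ← h3, mul_assoc ⁅x, y⁆, hy, mul_one] at h4
      exact h4
    have h3 := hodd _ h1 h2
    rwa [commutatorElement_eq_one_iff_mul_comm] at h3
  have hle : ∀ x : G, π x ∈ D → x * x = 1 → ∀ y ∈ closure {y | y ∈ {x : G | x * x = 1 ∧ π x ∈ D} ∧ Commute y x},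
      π y ∈ closure {y | y ∈ D ∧ Commute y (π x)} := by
    intro x hx hx2 y hy
    have h1 : (closure {y | y ∈ {x : G | x * x = 1 ∧ π x ∈ D} ∧ Commute y x}).map π ≤
        closure {y | y ∈ D ∧ Commute y (π x)} := by
      rw [map_le_iff_le_comap, closure_le]
      rintro y ⟨hy, hyx⟩
      exact subset_closure ⟨hy.2, hyx.map π⟩
    exact h1 (mem_map_of_mem _ hy)
  have htwo : ∀ x ∈ {x : G | x * x = 1 ∧ π x ∈ D},
      IsPGroup 2 ↥(closure {y | y ∈ {x : G | x * x = 1 ∧ π x ∈ D} ∧ Commute y x}) := by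
    rintro x ⟨hx, hxD⟩
    set A := {y | y ∈ {x : G | x * x = 1 ∧ π x ∈ D} ∧ Commute y x} with hA
    have h1 : closure ((Subtype.val : ↥(closure A) → G) ⁻¹' A) = ⊤ := closure_closure_coe_preimage
    refine isPGroup_of_central h1 ?_ ?_
    · intro y hy
      exact Subtype.ext hy.1.1
    · intro g
      obtain ⟨k, hk⟩ := h.two _ hxD ⟨π g, hle x hxD hx g g.2⟩
      refine ⟨k, ?_⟩
      have h2 := congrArg Subtype.val hk
      rw [coe_pow, coe_one] at h2
      change (π (g : G)) ^ 2 ^ k = 1 at h2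
      rw [← map_pow, hker] at h2
      rw [mem_center_iff]
      intro y
      exact Subtype.ext (mem_center_iff.1 (hc h2) y)
  refine ⟨?_, ?_, htwo, ?_, ?_⟩
  · rintro x ⟨hx, hxD⟩
    have h1 : orderOf x ∣ 2 := orderOf_dvd_of_pow_eq_one (by rw [pow_two, hx])
    rcases (Nat.dvd_prime Nat.prime_two).1 h1 with h2 | h2
    · rw [orderOf_eq_one_iff] at h2
      rw [h2, map_one] at hxD
      exact absurd rfl (h.ne_one hxD)
    · exact h2
  · rintro x ⟨hx, hxD⟩ g
    refine ⟨?_, ?_⟩
    · calc g * x * g⁻¹ * (g * x * g⁻¹) = g * (x * x) * g⁻¹ := by group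
        _ = 1 := by rw [hx, mul_one, mul_inv_cancel]
    · rw [map_mul, map_mul, map_inv]
      exact h.conj _ hxD _
  · rintro x ⟨hx, hxD⟩
    have hp := htwo x ⟨hx, hxD⟩
    set V := closure {y | y ∈ {x : G | x * x = 1 ∧ π x ∈ D} ∧ Commute y x} with hV
    have h1 : V.map π ≤ closure {y | y ∈ D ∧ Commute y (π x)} := by
      rw [map_le_iff_le_comap]
      exact fun y hy => hle x hxD hx y hy
    rw [eq_bot_iff]
    intro y hy
    have hVV : ∀ A B : Subgroup G, A ≤ V → B ≤ V → ⁅A, B⁆ ≤ V := fun A B hA hB =>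
      commutator_le.2 fun a ha b hb =>
        V.mul_mem (V.mul_mem (V.mul_mem (hA ha) (hB hb)) (V.inv_mem (hA ha))) (V.inv_mem (hB hb))
    have hyV : y ∈ V := hVV _ _ (hVV _ _ le_rfl le_rfl) le_rfl hy
    have h2 := mem_map_of_mem π hy
    rw [map_commutator, map_commutator] at h2
    have h3 := commutator_mono (commutator_mono h1 h1) h1 h2
    rw [h.cls _ hxD, mem_bot, hker] at h3
    obtain ⟨k, hk⟩ := hp ⟨y, hyV⟩
    have h4 : y ^ 2 ^ k = 1 := congrArg Subtype.val hk
    have h5 : orderOf y ∣ 2 ^ k := orderOf_dvd_of_pow_eq_one h4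
    have h6 : Odd (orderOf y) := Odd.of_dvd_nat hN (Subgroup.orderOf_dvd_natCard N h3)
    have h7 : Nat.Coprime (orderOf y) (2 ^ k) := Nat.Coprime.pow_right _ h6.coprime_two_right
    rw [mem_bot, ← orderOf_eq_one_iff]
    exact Nat.eq_one_of_dvd_coprimes h7 dvd_rfl h5
  · rintro x ⟨hx, hxD⟩ y ⟨hy, hyD⟩ hne hxy
    refine ⟨?_, ?_⟩
    · calc x * y * (x * y) = x * (y * x) * y := by group
        _ = x * (x * y) * y := by rw [hxy.eq]
        _ = (x * x) * (y * y) := by group
        _ = 1 := by rw [hx, hy, one_mul]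
    · rw [map_mul]
      refine h.mul _ hxD _ hyD ?_ (hxy.map π)
      intro h1
      apply hne
      have h2 : x * y⁻¹ ∈ N := by
        rw [← hker, map_mul, map_inv, h1, mul_inv_cancel]
      have hy' : y⁻¹ = y := inv_eq_of_mul_eq_one_right hy
      rw [hy'] at h2
      have h3 := hodd _ h2 (by
        calc x * y * (x * y) = x * (y * x) * y := by group
          _ = x * (x * y) * y := by rw [hxy.eq]
          _ = (x * x) * (y * y) := by group
          _ = 1 := by rw [hx, hy, one_mul])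
      rw [mul_eq_one_iff_eq_inv, hy'] at h3
      exact h3

/-- `X` has no nonempty `RT` set -/
def NoRT (X : Type*) [Group X] : Prop := ∀ D : Set X, RT D → D.Nonempty → False

theorem NoRT.congr {X Y : Type*} [Group X] [Group Y] (h : NoRT X) (e : X ≃* Y) : NoRT Y := by
  intro D hD hne
  obtain ⟨x, hx⟩ := hne
  exact h _ (hD.map_equiv e) ⟨e.symm x, by
    change e (e.symm x) ∈ D
    rwa [e.apply_symm_apply]⟩

/-- from a group to its quotient by a central subgroup of odd order -/
theorem NoRT.quotient [Finite G] (h : NoRT G) (N : Subgroup G) [N.Normal] (hc : N ≤ center G)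
    (hN : Odd (Nat.card ↥N)) : NoRT (G ⧸ N) := by
  intro D hD hne
  obtain ⟨x, hx⟩ := hne
  obtain ⟨y, rfl⟩ := QuotientGroup.mk'_surjective N x
  have h4 : y * y ∈ N := by
    have h5 : QuotientGroup.mk' N (y * y) = 1 := by rw [map_mul, hD.sq hx]
    exact (QuotientGroup.eq_one_iff _).1 h5
  refine h _ (hD.lift N hc hN) ⟨y ^ Nat.card ↥N, ?_, ?_⟩
  · have h5 : (⟨y * y, h4⟩ : ↥N) ^ Nat.card ↥N = 1 := pow_card_eq_one'
    have h6 := congrArg Subtype.val h5
    rw [coe_pow] at h6
    rw [← pow_add, ← two_mul, pow_mul, pow_two]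
    exact h6
  · obtain ⟨k, hk⟩ := hN
    have h5 : QuotientGroup.mk' N (y ^ Nat.card ↥N) = QuotientGroup.mk' N y := by
      rw [hk, pow_succ, pow_mul, pow_two, map_mul, map_pow, map_mul, hD.sq hx, one_pow, one_mul]
    rw [h5]
    exact hx

/-! ### The transvection lemma -/

/-- the product of two transvections of characteristic two with `f r * g p ≠ 0` has order not dividing four -/
theorem transv_four {F V : Type*} [Field F] [CharP F 2] [AddCommGroup V] [Module F V] {X Y : V → V} {p r : V}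
    (f g : V → F) (hf : ∀ a b, f (a + b) = f a + f b) (hf' : ∀ (c : F) a, f (c • a) = c * f a)
    (hg : ∀ a b, g (a + b) = g a + g b) (hg' : ∀ (c : F) a, g (c • a) = c * g a)
    (hX : ∀ s, X s = s + f s • p) (hY : ∀ s, Y s = s + g s • r) (hfp : f p = 0) (hgr : g r = 0)
    (hk : f r ≠ 0) (hl : g p ≠ 0) (h : X (Y (X (Y (X (Y (X (Y p))))))) = p) : False := by
  have h2 : (2 : F) = 0 := CharTwo.two_eq_zero
  have hX' : ∀ a b : F, X (a • p + b • r) = (a + b * f r) • p + b • r := by
    intro a b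
    rw [hX, hf, hf', hf', hfp, mul_zero, zero_add, add_smul]
    abel
  have hY' : ∀ a b : F, Y (a • p + b • r) = a • p + (b + a * g p) • r := by
    intro a b
    rw [hY, hg, hg', hg', hgr, mul_zero, add_zero, add_smul]
    abel
  have h1 : p = (1 : F) • p + (0 : F) • r := by rw [one_smul, zero_smul, add_zero]
  have h3 := congrArg f h
  nth_rewrite 1 [h1] at h3
  rw [hY', hX', hY', hX', hY', hX', hY', hX', hf, hf', hf', hfp, mul_zero, zero_add] at h3
  have h4 : (f r * g p) ^ 4 = 0 := by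
    set k := f r
    set l := g p
    linear_combination h3 - (2 * k * l + 5 * k ^ 2 * l ^ 2 + 3 * k ^ 3 * l ^ 3) * h2
  exact mul_ne_zero hk hl (pow_eq_zero_iff (by norm_num) |>.1 h4)

/-- the same on the plane spanned by `p` and `r` -/
theorem transv_four' {F V : Type*} [Field F] [CharP F 2] [AddCommGroup V] [Module F V] {X Y : V → V} {p r : V}
    {k l : F} (hX : ∀ a b : F, X (a • p + b • r) = (a + b * k) • p + b • r)
    (hY : ∀ a b : F, Y (a • p + b • r) = a • p + (b + a * l) • r)
    (hind : ∀ a b : F, a • p + b • r = p → b = 0) (hk : k ≠ 0) (hl : l ≠ 0)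
    (h : X (Y (X (Y (X (Y (X (Y p))))))) = p) : False := by
  have h2 : (2 : F) = 0 := CharTwo.two_eq_zero
  have h1 : p = (1 : F) • p + (0 : F) • r := by rw [one_smul, zero_smul, add_zero]
  nth_rewrite 1 [h1] at h
  rw [hY, hX, hY, hX, hY, hX, hY, hX] at h
  have h3 := hind _ _ h
  have h4 : k ^ 3 * l ^ 4 = 0 := by
    linear_combination h3 - (2 * l + 5 * k * l ^ 2 + 3 * k ^ 2 * l ^ 3) * h2
  exact mul_ne_zero (pow_ne_zero 3 hk) (pow_ne_zero 4 hl) h4

end Cfsg.Agent.H335
end
end

-- part: H281/RT/SheetE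
section
set_option linter.all false
open scoped Cfsg.Agent.FastGrp

/-!
# `NoRT` from the sheet of type (E) (helper281, for S3126)

`noRT_of_syl` : the common criterion: `z` is 2-central with `Z(S) = ⟨z⟩`, and some members `a, b` of the class of `z`
commuting with `z` have `(a b)⁴ ≠ 1`;
`noRT_of_sheetE` : a group with helper915's sheet of type (E).
-/

set_option autoImplicit false

namespace Cfsg.Agent.H281.RT

open Subgroup Cfsg.Agent.H335 Cfsg.Agent.OddHalf.D8.Sheet

variable {K : Type*} [Group K]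

/-- an `RT` set contains a 2-central involution which is unique in the centre of its Sylow subgroup -/
theorem mem_of_syl [Finite K] {D : Set K} (hD : RT D) (hne : D.Nonempty) {z : K}
    (h : ∃ S : Sylow 2 K, z ∈ S ∧ (∀ x ∈ S, x * z = z * x) ∧
      ∀ y ∈ S, (∀ x ∈ S, x * y = y * x) → y = 1 ∨ y = z) : z ∈ D := by
  obtain ⟨S, -, -, hu⟩ := h
  obtain ⟨z', hz'D, hz'S, hz'⟩ := hD.exists_central S hne
  rcases hu z' hz'S (fun x hx => hz' x hx) with h1 | h1
  · exact absurd h1 (hD.ne_one hz'D)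
  · rwa [← h1]

/-- an `RT` set contains every involution if they are conjugate -/
theorem mem_of_one {D : Set K} (hD : RT D) (hne : D.Nonempty)
    (h : ∀ x y : K, orderOf x = 2 → orderOf y = 2 → IsConj x y) {z : K} (hz : orderOf z = 2) : z ∈ D := by
  obtain ⟨a, ha⟩ := hne
  exact hD.of_isConj ha (h a z (hD.inv a ha) hz)

/-- one class of involutions and a product of two involutions of the wrong order -/
theorem noRT_of_one [Finite K] (h : ∀ x y : K, orderOf x = 2 → orderOf y = 2 → IsConj x y) {a b : K}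
    (ha : orderOf a = 2) (hb : orderOf b = 2) (h2 : Even (orderOf (a * b))) (h4 : (a * b) ^ 4 ≠ 1) : NoRT K := by
  intro D hD hne
  rcases hD.order (mem_of_one hD hne h ha) (mem_of_one hD hne h hb) with h1 | h1
  · exact (Nat.not_odd_iff_even.2 h2) h1
  · exact h4 h1

/-- **the sheet of type (E)** -/
theorem noRT_of_sheetE [Finite K] {z : K} {P R : Subgroup K} (h : SheetE z P R) : NoRT K := by
  intro D hD hne
  have hz : z ∈ D := mem_of_syl hD hne h.syl
  set W := closure {y | y ∈ D ∧ Commute y z} with hW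
  have h1 : W ⊓ P ≤ R := by
    refine h.Rmax _ inf_le_right ((hD.two z hz).to_le inf_le_left) ?_
    rintro x hx b ⟨hbW, hbP⟩
    refine ⟨?_, P.mul_mem (P.mul_mem hx hbP) (P.inv_mem hx)⟩
    have hxz : Commute x z := h.cen x hx
    have h3 : W.map (MulAut.conj x).toMonoidHom ≤ W := by
      rw [hW, map_le_iff_le_comap, closure_le]
      rintro u ⟨hu, huz⟩
      refine subset_closure ⟨hD.conj u hu x, ?_⟩
      change Commute (x * u * x⁻¹) z
      exact (hxz.mul_left huz).mul_left hxz.inv_left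
    exact h3 (mem_map_of_mem _ hbW)
  obtain ⟨k, hk1, hk2, -⟩ := h.ytrick
  exact hk2 (h1 ⟨subset_closure ⟨hD.conj z hz k, h.cen _ hk1⟩, hk1⟩)

/-- a product of order six -/
theorem six {G : Type*} [Group G] {c : G} (h6 : c ^ 6 = 1) (h3 : c ^ 3 ≠ 1) (h2 : c ^ 2 ≠ 1) :
    Even (orderOf c) ∧ c ^ 4 ≠ 1 := by
  have hd := orderOf_dvd_of_pow_eq_one h6
  constructor
  · rw [← Nat.not_odd_iff_even]
    intro ho
    apply h3
    rw [← orderOf_dvd_iff_pow_eq_one]
    exact (Nat.Coprime.dvd_of_dvd_mul_left (ho.coprime_two_right) (show orderOf c ∣ 2 * 3 from hd))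
  · intro h4
    apply h2
    rw [← orderOf_dvd_iff_pow_eq_one]
    have := Nat.dvd_gcd hd (orderOf_dvd_of_pow_eq_one h4)
    simpa using this

/-- two members of an `RT` set have no product of order six -/
theorem false_of_six [Finite K] {D : Set K} (hD : RT D) {a b : K} (ha : a ∈ D) (hb : b ∈ D)
    (h6 : (a * b) ^ 6 = 1) (h3 : (a * b) ^ 3 ≠ 1) (h2 : (a * b) ^ 2 ≠ 1) : False := by
  obtain ⟨h1, h4⟩ := six h6 h3 h2
  rcases hD.order ha hb with h5 | h5
  · exact (Nat.not_odd_iff_even.2 h1) h5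
  · exact h4 h5

/-- all the involutions are conjugate to one of them -/
theorem mem_of_one' {D : Set K} (hD : RT D) (hne : D.Nonempty) {t : K}
    (h : ∀ x : K, x * x = 1 → x ≠ 1 → ∃ g : K, g * t * g⁻¹ = x) {s : K} (hs : s * s = 1) (hs1 : s ≠ 1) : s ∈ D := by
  obtain ⟨d, hd⟩ := hne
  obtain ⟨g, hg⟩ := h d (hD.sq hd) (hD.ne_one hd)
  obtain ⟨k, hk⟩ := h s hs hs1
  rw [← hk]
  refine hD.conj _ ?_ k
  have h1 := hD.conj_mem' hd g
  rwa [← hg, show g⁻¹ * (g * t * g⁻¹) * g = t by group] at h1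

/-- one class of involutions and a product of two involutions of order six -/
theorem noRT_of_six [Finite K] {t : K} (h : ∀ x : K, x * x = 1 → x ≠ 1 → ∃ g : K, g * t * g⁻¹ = x) {a b : K}
    (ha : a * a = 1) (ha1 : a ≠ 1) (hb : b * b = 1) (hb1 : b ≠ 1)
    (h6 : (a * b) ^ 6 = 1) (h3 : (a * b) ^ 3 ≠ 1) (h2 : (a * b) ^ 2 ≠ 1) : NoRT K := fun _ hD hne =>
  false_of_six hD (mem_of_one' hD hne h ha ha1) (mem_of_one' hD hne h hb hb1) h6 h3 h2

end Cfsg.Agent.H281.RT
end

-- part: H281/RT/Alt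
section
set_option linter.all false
open scoped Cfsg.Agent.FastGrp

/-!
# `NoRT` for the alternating groups of degree at least 7 (helper281, for S3126)
-/

set_option autoImplicit false

namespace Cfsg.Agent.H281.RT

open Subgroup Cfsg.Agent.H335 Equiv Equiv.Perm

variable {n : ℕ}

/-- an involution of the alternating group moves at least four points -/
theorem four_points {x : alternatingGroup (Fin n)} {i j : Fin n} (hxx : x * x = 1) (hij : (x : Perm (Fin n)) i = j)
    (hne : i ≠ j) : ∃ k : Fin n, k ≠ i ∧ k ≠ j ∧ (x : Perm (Fin n)) k ≠ k := by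
  by_contra hcon
  push Not at hcon
  have hji : (x : Perm (Fin n)) j = i := by
    have := congrArg (fun y : alternatingGroup (Fin n) => (y : Perm (Fin n)) i) hxx
    simpa [hij] using this
  have h2 : (x : Perm (Fin n)) = swap i j := by
    ext k
    rcases eq_or_ne k i with rfl | hki
    · rw [hij, swap_apply_left]
    rcases eq_or_ne k j with rfl | hkj
    · rw [hji, swap_apply_right]
    · rw [hcon k hki hkj, swap_apply_of_ne_of_ne hki hkj]
  have h3 := x.2
  rw [mem_alternatingGroup, h2, sign_swap hne] at h3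
  norm_num at h3

/-- `D` contains a product of two transpositions -/
theorem exists_two_two {D : Set (alternatingGroup (Fin n))} (hD : RT D) (hne : D.Nonempty) :
    ∃ y ∈ D, ∃ a b c d : Fin n, [a, b, c, d].Nodup ∧ (y : Perm (Fin n)) = swap a b * swap c d := by
  obtain ⟨x, hx⟩ := hne
  have hxx := hD.sq hx
  have hx1 := hD.ne_one hx
  obtain ⟨i, hi⟩ : ∃ i : Fin n, (x : Perm (Fin n)) i ≠ i := by
    by_contra hcon
    push Not at hcon
    exact hx1 (Subtype.ext (Equiv.ext hcon))
  set j := (x : Perm (Fin n)) i with hj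
  obtain ⟨k, hki, hkj, hk⟩ := four_points hxx hj.symm hi.symm
  set l := (x : Perm (Fin n)) k with hl
  have hp : ∀ m, (x : Perm (Fin n)) ((x : Perm (Fin n)) m) = m := by
    intro m
    have := congrArg (fun y : alternatingGroup (Fin n) => (y : Perm (Fin n)) m) hxx
    simpa using this
  have hji : (x : Perm (Fin n)) j = i := hp i
  have hlk : (x : Perm (Fin n)) l = k := hp k
  have hli : l ≠ i := by
    intro h
    apply hkj
    rw [← hlk, h]
  have hlj : l ≠ j := by
    intro h
    apply hki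
    rw [← hlk, h, hji]
  have hs2 : swap j k * swap i j ∈ alternatingGroup (Fin n) := by
    rw [mem_alternatingGroup, map_mul, sign_swap hkj.symm, sign_swap hi.symm]; norm_num
  set g : alternatingGroup (Fin n) := ⟨swap j k * swap i j, hs2⟩ with hg
  have hxv : (x : Perm (Fin n))⁻¹ = x := by
    rw [inv_eq_iff_mul_eq_one]
    exact congrArg Subtype.val hxx
  have hcen : swap i j * (x : Perm (Fin n)) * swap i j = x := by
    have h1 : (x : Perm (Fin n)) * swap i j * (x : Perm (Fin n))⁻¹ = swap i j := by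
      have : swap ((x : Perm (Fin n)) i) ((x : Perm (Fin n)) j) = (x : Perm (Fin n)) * swap i j * (x : Perm (Fin n))⁻¹ :=
        swap_apply_apply _ _ _
      rw [← this, ← hj, hji, swap_comm]
    rw [mul_inv_eq_iff_eq_mul] at h1
    rw [← h1, mul_assoc, swap_mul_self, mul_one]
  have hy : ((g * x * g⁻¹ : alternatingGroup (Fin n)) : Perm (Fin n)) = swap j k * x * swap j k := by
    change swap j k * swap i j * x * (swap j k * swap i j)⁻¹ = _
    rw [mul_inv_rev, swap_inv, swap_inv]
    calc swap j k * swap i j * (x : Perm (Fin n)) * (swap i j * swap j k)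
        = swap j k * (swap i j * (x : Perm (Fin n)) * swap i j) * swap j k := by group
      _ = _ := by rw [hcen]
  have hxy : (x : Perm (Fin n)) * (swap j k * x * swap j k) = swap i l * swap j k := by
    have h1 : (x : Perm (Fin n)) * swap j k * (x : Perm (Fin n))⁻¹ = swap i l := by
      have : swap ((x : Perm (Fin n)) j) ((x : Perm (Fin n)) k) = (x : Perm (Fin n)) * swap j k * (x : Perm (Fin n))⁻¹ :=
        swap_apply_apply _ _ _
      rw [← this, hji, ← hl]
    rw [hxv] at h1
    rw [← mul_assoc, ← mul_assoc, h1]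
  have hdis : Disjoint (swap i l) (swap j k) := by
    rw [disjoint_iff_disjoint_support, support_swap hli.symm, support_swap hkj.symm]
    simp only [Finset.disjoint_insert_left, Finset.disjoint_singleton_left, Finset.mem_insert, Finset.mem_singleton]
    push Not
    exact ⟨⟨hi.symm, hki.symm⟩, hlj, hk⟩
  have hnd : [i, l, j, k].Nodup := by
    simp only [List.nodup_cons, List.mem_cons, List.not_mem_nil, not_false_eq_true, List.nodup_nil, and_true, or_false]
    push Not
    exact ⟨⟨hli.symm, hi.symm, hki.symm⟩, ⟨hlj, hk⟩, hkj.symm⟩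
  have hyD : g * x * g⁻¹ ∈ D := hD.conj x hx g
  have hcomm : Commute x (g * x * g⁻¹) := by
    have h2 : (x * (g * x * g⁻¹)) * (x * (g * x * g⁻¹)) = 1 := by
      apply Subtype.ext
      change (x : Perm (Fin n)) * ((g * x * g⁻¹ : alternatingGroup (Fin n)) : Perm (Fin n)) * ((x : Perm (Fin n)) * ((g * x * g⁻¹ : alternatingGroup (Fin n)) : Perm (Fin n))) = 1
      rw [hy, hxy]
      calc swap i l * swap j k * (swap i l * swap j k) = swap i l * (swap j k * swap i l) * swap j k := by group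
        _ = swap i l * (swap i l * swap j k) * swap j k := by rw [hdis.commute.eq]
        _ = (swap i l * swap i l) * (swap j k * swap j k) := by group
        _ = 1 := by rw [swap_mul_self, swap_mul_self, one_mul]
    have h3 : (g * x * g⁻¹)⁻¹ = g * x * g⁻¹ := hD.inv_eq hyD
    calc x * (g * x * g⁻¹) = (x * (g * x * g⁻¹))⁻¹ := eq_inv_of_mul_eq_one_left h2
      _ = g * x * g⁻¹ * x := by rw [mul_inv_rev, h3, hD.inv_eq hx]
  refine ⟨x * (g * x * g⁻¹), hD.mul x hx _ hyD ?_ hcomm, i, l, j, k, hnd, ?_⟩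
  · intro h
    have h1 : x * (g * x * g⁻¹) = 1 := by rw [← h, hxx]
    have h2 := congrArg Subtype.val h1
    change (x : Perm (Fin n)) * ((g * x * g⁻¹ : alternatingGroup (Fin n)) : Perm (Fin n)) = 1 at h2
    rw [hy, hxy] at h2
    have h3 := congrArg (fun p : Perm (Fin n) => p i) h2
    simp only [Perm.mul_apply, Perm.one_apply] at h3
    rw [swap_apply_of_ne_of_ne hi.symm hki.symm, swap_apply_left] at h3
    exact hli h3
  · change (x : Perm (Fin n)) * ((g * x * g⁻¹ : alternatingGroup (Fin n)) : Perm (Fin n)) = _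
    rw [hy, hxy]

theorem cycleType_two_two {a b c d : Fin n} (h : [a, b, c, d].Nodup) :
    (swap a b * swap c d).cycleType = {2, 2} ∧ (swap a b * swap c d).support.card = 4 := by
  simp only [List.nodup_cons, List.mem_cons, List.not_mem_nil, not_false_eq_true, List.nodup_nil, and_true, or_false] at h
  push Not at h
  obtain ⟨⟨hab, hac, had⟩, ⟨hbc, hbd⟩, hcd⟩ := h
  have hdis : Disjoint (swap a b) (swap c d) := by
    rw [disjoint_iff_disjoint_support, support_swap hab, support_swap hcd]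
    simp only [Finset.disjoint_insert_left, Finset.disjoint_singleton_left, Finset.mem_insert, Finset.mem_singleton]
    push Not
    exact ⟨⟨hac, had⟩, hbc, hbd⟩
  constructor
  · rw [hdis.cycleType_mul, (isCycle_swap hab).cycleType, (isCycle_swap hcd).cycleType, support_swap hab, support_swap hcd,
      Finset.card_pair hab, Finset.card_pair hcd]
    rfl
  · rw [hdis.card_support_mul, support_swap hab, support_swap hcd, Finset.card_pair hab, Finset.card_pair hcd]

theorem noRT_alt (hn : 7 ≤ n) : NoRT (alternatingGroup (Fin n)) := by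
  intro D hD hne
  obtain ⟨y, hy, a, b, c, d, hnd, hyv⟩ := exists_two_two hD hne
  -- all the products of two transpositions are in `D`
  have hall : ∀ z : alternatingGroup (Fin n), (∃ a b c d : Fin n, [a, b, c, d].Nodup ∧ (z : Perm (Fin n)) = swap a b * swap c d) →
      z ∈ D := by
    rintro z ⟨a', b', c', d', hnd', hz⟩
    refine hD.of_isConj hy (alternatingGroup.isConj_of ?_ ?_)
    · rw [isConj_iff_cycleType_eq, hyv, hz, (cycleType_two_two hnd).1, (cycleType_two_two hnd').1]
    · rw [hyv, (cycleType_two_two hnd).2, Fintype.card_fin]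
      omega
  let e : Fin 7 ↪ Fin n := Fin.castLEEmb hn
  have hsw : ∀ i j : Fin 7, viaEmbeddingHom e (swap i j) = swap (e i) (e j) := by
    intro i j
    ext m
    congr 1
    change viaEmbedding (swap i j) e m = _
    by_cases hm : m ∈ Set.range e
    · obtain ⟨m, rfl⟩ := hm
      rw [viaEmbedding_apply, e.injective.swap_apply]
    · rw [viaEmbedding_apply_of_notMem _ _ _ hm, swap_apply_of_ne_of_ne]
      · rintro rfl; exact hm ⟨_, rfl⟩
      · rintro rfl; exact hm ⟨_, rfl⟩
  have hinj : Function.Injective (viaEmbeddingHom e) := viaEmbeddingHom_injective e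
  have hmem : ∀ a b c d : Fin 7, a ≠ b → c ≠ d → swap (e a) (e b) * swap (e c) (e d) ∈ alternatingGroup (Fin n) := by
    intro a b c d hab hcd
    rw [mem_alternatingGroup, map_mul, sign_swap (e.injective.ne hab), sign_swap (e.injective.ne hcd)]; norm_num
  have h1 : (⟨_, hmem 0 1 3 4 (by decide) (by decide)⟩ : alternatingGroup (Fin n)) ∈ D :=
    hall _ ⟨e 0, e 1, e 3, e 4, by
      have : [e 0, e 1, e 3, e 4] = [0, 1, 3, 4].map e := rfl
      rw [this]
      exact List.Nodup.map e.injective (by decide), rfl⟩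
  have h2 : (⟨_, hmem 0 2 5 6 (by decide) (by decide)⟩ : alternatingGroup (Fin n)) ∈ D :=
    hall _ ⟨e 0, e 2, e 5, e 6, by
      have : [e 0, e 2, e 5, e 6] = [0, 2, 5, 6].map e := rfl
      rw [this]
      exact List.Nodup.map e.injective (by decide), rfl⟩
  set u : alternatingGroup (Fin n) := ⟨_, hmem 0 1 3 4 (by decide) (by decide)⟩ with hu
  set v : alternatingGroup (Fin n) := ⟨_, hmem 0 2 5 6 (by decide) (by decide)⟩ with hv
  have key : ∀ m : ℕ, (u * v) ^ m = 1 ↔ (((swap (0 : Fin 7) 1 * swap (3 : Fin 7) 4) * (swap (0 : Fin 7) 2 * swap (5 : Fin 7) 6) : Perm (Fin 7)) ^ m = 1) := by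
    intro m
    have h3 : viaEmbeddingHom e ((swap (0 : Fin 7) 1 * swap (3 : Fin 7) 4) * (swap (0 : Fin 7) 2 * swap (5 : Fin 7) 6)) = ((u * v : alternatingGroup (Fin n)) : Perm (Fin n)) := by
      rw [map_mul, map_mul, map_mul, hsw, hsw, hsw, hsw]
      rfl
    rw [← hinj.eq_iff, map_pow, h3, Subtype.ext_iff]
    have h4 : viaEmbeddingHom e 1 = 1 := map_one _
    rw [h4]
    rfl
  have hp : ∀ m : ℕ, (((swap (0 : Fin 7) 1 * swap (3 : Fin 7) 4) * (swap (0 : Fin 7) 2 * swap (5 : Fin 7) 6) : Perm (Fin 7)) ^ m = 1) ↔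
      ∀ i, (((swap (0 : Fin 7) 1 * swap (3 : Fin 7) 4) * (swap (0 : Fin 7) 2 * swap (5 : Fin 7) 6) : Perm (Fin 7)) ^ m) i = i := by
    intro m
    rw [Equiv.ext_iff]
    rfl
  refine false_of_six hD h1 h2 ?_ ?_ ?_
  · rw [key, hp]; decide +kernel
  · rw [Ne, key, hp]; decide +kernel
  · rw [Ne, key, hp]; decide +kernel

end Cfsg.Agent.H281.RT
end

-- part: H281/RT/RowTits
section
set_option linter.all false
open scoped Cfsg.Agent.FastGrp

/-!
# `NoRT` for the Tits group (helper281, for S3126)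
-/

set_option autoImplicit false

namespace Cfsg.Agent.H281.RT

open Cfsg Subgroup Cfsg.Agent.H335 Cfsg.Agent.TitsK

theorem noRT_T {G : Type*} [Group G] [Finite G] (D : TData G) (hzb : ∃ t ∈ D.T, t * D.zb * t⁻¹ = D.z) :
    NoRT ↥D.T := by
  have hp2 : Fact (Nat.Prime 2) := ⟨Nat.prime_two⟩
  intro C hC hne
  obtain ⟨z', hz'C, hz'S, hz'⟩ := hC.exists_central D.syl hne
  have hzT : D.z ∈ D.T := D.V_le_T D.z_mem_V
  have hz : (⟨D.z, hzT⟩ : ↥D.T) ∈ C := by
    rcases D.cent_S z' (D.mem_S.1 (D.mem_syl.1 hz'S)).1 (by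
      intro c hc
      exact (congrArg Subtype.val (hz' ⟨c, hc.2⟩ (D.mem_syl.2 hc)).eq).symm) with h | h
    · exact absurd (Subtype.ext h) (hC.ne_one hz'C)
    · have : z' = ⟨D.z, hzT⟩ := Subtype.ext h
      rwa [← this]
  obtain ⟨t, ht, htz⟩ := hzb
  have hzb' : D.zb = t⁻¹ * D.z * t := by rw [← htz]; group
  have hzbT : D.zb ∈ D.T := by
    rw [hzb']; exact D.T.mul_mem (D.T.mul_mem (D.T.inv_mem ht) hzT) ht
  have hzbC : (⟨D.zb, hzbT⟩ : ↥D.T) ∈ C := by
    have h1 := hC.conj_mem' hz ⟨t, ht⟩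
    have h2 : (⟨t, ht⟩ : ↥D.T)⁻¹ * ⟨D.z, hzT⟩ * ⟨t, ht⟩ = ⟨D.zb, hzbT⟩ := Subtype.ext hzb'.symm
    rwa [h2] at h1
  have hw0i : D.w0⁻¹ = D.w0 := inv_eq_of_mul_eq_one_right D.w0_sq
  have hzbmC : (⟨D.zbm, D.zbm_mem⟩ : ↥D.T) ∈ C := by
    have h1 := hC.conj_mem' hzbC ⟨D.w0, D.w0_mem⟩
    have h2 : (⟨D.w0, D.w0_mem⟩ : ↥D.T)⁻¹ * ⟨D.zb, hzbT⟩ * ⟨D.w0, D.w0_mem⟩ = ⟨D.zbm, D.zbm_mem⟩ := by
      apply Subtype.ext
      show D.w0⁻¹ * D.zb * D.w0 = D.zbm
      rw [hw0i, ← D.w0_zbm]
      calc D.w0 * (D.w0 * D.zbm * D.w0) * D.w0 = (D.w0 * D.w0) * D.zbm * (D.w0 * D.w0) := by group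
        _ = D.zbm := by rw [D.w0_sq, one_mul, mul_one]
    rwa [h2] at h1
  set W := closure {y | y ∈ C ∧ Commute y ⟨D.z, hzT⟩} with hW
  have hcen : ∀ x ∈ D.syl, Commute x (⟨D.z, hzT⟩ : ↥D.T) := by
    intro x hx
    apply Subtype.ext
    show (x : G) * D.z = D.z * x
    exact mul_inv_eq_iff_eq_mul.1 (D.z_central x (D.mem_S.1 (D.mem_syl.1 hx)).1)
  have hn : ∀ x ∈ (D.syl : Subgroup ↥D.T), ∀ w ∈ W, x * w * x⁻¹ ∈ W := by
    intro x hx w hw
    have hxz := hcen x hx
    have h3 : W.map (MulAut.conj x).toMonoidHom ≤ W := by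
      rw [hW, map_le_iff_le_comap, closure_le]
      rintro u ⟨hu, huz⟩
      refine subset_closure ⟨hC.conj u hu x, ?_⟩
      change Commute (x * u * x⁻¹) _
      exact (hxz.mul_left huz).mul_left hxz.inv_left
    exact h3 (mem_map_of_mem _ hw)
  have h2 : (D.syl : Subgroup ↥D.T) ≤ normalizer (W : Set ↥D.T) := by
    intro s hs
    rw [mem_normalizer_iff]
    intro x
    constructor
    · exact hn s hs x
    · intro hx
      have h4 := hn s⁻¹ (inv_mem hs) _ hx
      rwa [show s⁻¹ * (s * x * s⁻¹) * s⁻¹⁻¹ = x by group] at h4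
  have h3 : IsPGroup 2 ((D.syl : Subgroup ↥D.T) ⊔ W : Subgroup ↥D.T) :=
    D.syl.isPGroup'.to_sup_of_normal_right' (hC.two _ hz) h2
  have h4 := D.syl.is_maximal' h3 le_sup_left
  have h5 : (⟨D.zbm, D.zbm_mem⟩ : ↥D.T) ∈ (D.syl : Subgroup ↥D.T) ⊔ W := by
    apply le_sup_right (a := (D.syl : Subgroup ↥D.T))
    refine subset_closure ⟨hzbmC, ?_⟩
    apply Subtype.ext
    show D.zbm * D.z = D.z * D.zbm
    exact mul_inv_eq_iff_eq_mul.1 D.zbm_z
  rw [h4] at h5
  have h6 := (D.mem_S.1 (D.mem_syl.1 h5)).1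
  exact D.zbm_ne (D.opp _ h6 D.zbm_opp)

theorem noRT_of_T {G : Type*} [Group G] [Finite G] (D : TData G) (hzb : ∃ t ∈ D.T, t * D.zb * t⁻¹ = D.z)
    {X : Type*} [Group X] (e : ↥D.T ≃* X) : NoRT X := NoRT.congr (noRT_T D hzb) e

theorem zb_conj : ∃ t ∈ TT, t * zb * t⁻¹ = z := by
  have h1 : (80 : ℕ) ∈ LA := by
    have h : memB 80 LA = true := by decide +kernel
    exact memB_spec h
  rw [zb_eq]
  exact LA_spec 80 h1

theorem row_tits (T : Type*) [Group T] [Finite T] (h : Lie.IsoTits T) : NoRT T := by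
  obtain ⟨e⟩ := h
  obtain ⟨e'⟩ := Cfsg.Agent.TitsK.exists_equiv
  exact noRT_of_T tdata zb_conj (e.trans e').symm

end Cfsg.Agent.H281.RT
end

-- part: H281/RT/RowON
section
set_option linter.all false
open scoped Cfsg.Agent.FastGrp

/-!
# `NoRT` for the O'Nan group (helper281, for S3126)
-/

set_option autoImplicit false

namespace Cfsg.Agent.H281.RT

open Cfsg Subgroup Cfsg.Agent.H335 Cfsg.Agent.SporadicB.ON45Word Cfsg.Spor.ON Cfsg.Agent.SporadicB.ON45Data

section ON

open Cfsg.Agent.KFacts.MulSpor.ON (w w_append w_one w_cons iw w_iw okw rel eqw)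

theorem row_on {T : Type*} [Group T] (h : Spor.IsoON T) : NoRT T := by
  obtain ⟨e⟩ := h
  refine NoRT.congr ?_ e.symm
  have hf := Cfsg.Agent.KFacts.ON.OneClass.finite_ON
  have hs := Cfsg.Agent.KFacts.ON.OneClass.hs
  have hab := Cfsg.Agent.Omega.Quasithin.Row.ON.ab_ne
  have haa : on .a * on .a = 1 := by rw [← w_one, ← w_append]; exact rel hs _ (by decide +kernel)
  have hbb : on .b * on .b = 1 := by rw [← w_one, ← w_append]; exact rel hs _ (by decide +kernel)
  have hdd : on .d * on .d = 1 := by rw [← w_one, ← w_append]; exact rel hs _ (by decide +kernel)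
  have hda : on .d * on .a = on .a * on .d := by
    rw [← w_one, ← w_one, ← w_append, ← w_append]; exact eqw hs _ _ (by decide +kernel)
  have hdb : on .d * on .b = on .b * on .d := by
    rw [← w_one, ← w_one, ← w_append, ← w_append]; exact eqw hs _ _ (by decide +kernel)
  have hab3 : (on .a * on .b) ^ 3 = 1 := by
    rw [← w_one, ← w_one, ← w_append, pow_succ, pow_two, ← w_append, ← w_append]; exact rel hs _ (by decide +kernel)
  have hab1 : on .a * on .b ≠ 1 := by
    intro h
    apply hab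
    rw [mul_eq_one_iff_eq_inv.1 h, inv_eq_of_mul_eq_one_right hbb]
  have ha1 : on .a ≠ 1 := by
    intro h
    apply hab1
    have h1 := hab3
    rw [h, one_mul, pow_succ, pow_two, hbb, one_mul] at h1
    rw [h, h1, one_mul]
  have hb1 : on .b ≠ 1 := by
    intro h
    apply hab1
    have h1 := hab3
    rw [h, mul_one, pow_succ, pow_two, haa, one_mul] at h1
    rw [h, h1, mul_one]
  have hconj : ∀ x : Spor.ON, x * x = 1 → x ≠ 1 → ∃ g : Spor.ON, g * on .f * g⁻¹ = x := fun x h1 h2 =>
    isConj_iff.1 (Cfsg.Agent.KFacts.ON.OneClass.one_class h1 h2).symm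
  have hd1 : on .d ≠ 1 := by
    intro h
    obtain ⟨g, hg⟩ := isConj_iff.1 Cfsg.Agent.KFacts.ON.OneClass.fd_conj
    rw [h] at hg
    have hf1 : on .f = 1 := by
      have : on .f = g⁻¹ * (g * on .f * g⁻¹) * g := by group
      rw [this, hg]; group
    obtain ⟨g, hg⟩ := hconj _ haa ha1
    apply ha1
    rw [← hg, hf1]; group
  have hcomm : Commute (on .d) (on .a * on .b) := Commute.mul_right hda hdb
  have hdu : (on .d * on .a) * (on .d * on .a) = 1 := by
    calc (on .d * on .a) * (on .d * on .a) = on .d * (on .a * on .d) * on .a := by group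
      _ = (on .d * on .d) * (on .a * on .a) := by rw [← hda]; group
      _ = 1 := by rw [hdd, haa, one_mul]
  have hdu1 : on .d * on .a ≠ 1 := by
    intro h
    have h1 : on .d = on .a := by rw [mul_eq_one_iff_eq_inv.1 h, inv_eq_of_mul_eq_one_right haa]
    have h2 : on .a * (on .a * on .b) = on .a * on .b * on .a := by
      have := hcomm.eq
      rwa [h1] at this
    -- `a` commutes with `b`
    have h3 : on .a * on .b = on .b * on .a := by
      calc on .a * on .b = on .a * (on .a * (on .a * on .b)) := by rw [← mul_assoc (on .a) (on .a), haa, one_mul]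
        _ = on .a * (on .a * on .b * on .a) := by rw [h2]
        _ = (on .a * on .a) * on .b * on .a := by group
        _ = on .b * on .a := by rw [haa, one_mul]
    have h4 : (on .a * on .b) ^ 2 = 1 := by
      rw [pow_two]
      nth_rewrite 2 [h3]
      calc on .a * on .b * (on .b * on .a) = on .a * (on .b * on .b) * on .a := by group
        _ = 1 := by rw [hbb, mul_one, haa]
    apply hab1
    rw [pow_succ, h4, one_mul] at hab3
    exact hab3
  have hp : ∀ n : ℕ, (on .d * on .a * on .b) ^ n = on .d ^ n * (on .a * on .b) ^ n := by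
    intro n
    rw [mul_assoc]
    exact hcomm.mul_pow n
  refine noRT_of_six hconj hdu hdu1 hbb hb1 ?_ ?_ ?_
  · rw [hp, show (6 : ℕ) = 2 * 3 by norm_num, pow_mul, pow_two (on .d), hdd, one_pow, one_mul, mul_comm 2 3, pow_mul,
      hab3, one_pow]
  · rw [hp, hab3, mul_one, pow_succ, pow_two, hdd, one_mul]
    exact hd1
  · rw [hp, pow_two (on .d), hdd, one_mul]
    intro h4
    apply hab1
    rw [pow_succ, h4, one_mul] at hab3
    exact hab3

end ON

end Cfsg.Agent.H281.RT
end

-- part: H281/RT/RowJ1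
section
set_option linter.all false
open scoped Cfsg.Agent.FastGrp

/-!
# `NoRT` for `J₁` (helper281, for S3126)
-/

set_option autoImplicit false

namespace Cfsg.Agent.H281.RT

open Cfsg Subgroup Cfsg.Agent.H335 Cfsg.Agent.SporadicB.J1.Mat Cfsg.Agent.SporadicB.J1.Main

theorem row_j1 {T : Type*} [Group T] (h : Spor.IsoJ1 T) : NoRT T := by
  obtain ⟨e⟩ := h
  refine NoRT.congr ?_ e.symm
  have hf : Finite Spor.J1 := inferInstance
  let g : Spor.J1 := ev [1, 0, 3, 3]
  have hg : Rep g (evC [1, 0, 3, 3]) := rep_ev _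
  have hgi : Rep g⁻¹ (evC [1, 1, 2, 3]) := hg.inv (by decide +kernel)
  have hr := ((rep_u0).mul ((hg.mul rep_u0).mul hgi))
  have hi : orderOf u0 = 2 := orderOf_eq_prime ((rep_u0.pow 2).eq Rep.one (by decide +kernel))
    (rep_u0.ne Rep.one (by decide +kernel))
  have hi' : orderOf (g * u0 * g⁻¹) = 2 := by
    rw [← hi]
    exact orderOf_injective (MulAut.conj g).toMonoidHom (MulAut.conj g).injective u0
  obtain ⟨h2, h4⟩ := six (c := u0 * (g * u0 * g⁻¹)) ((hr.pow 6).eq Rep.one (by decide +kernel))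
    ((hr.pow 3).ne Rep.one (by decide +kernel)) ((hr.pow 2).ne Rep.one (by decide +kernel))
  exact noRT_of_one (fun x y hx hy => isConj_iff.2 (Cfsg.Agent.SignalizersComponents.BalEndJ1.isConj_J1 x y hx hy)) hi hi' h2 h4

end Cfsg.Agent.H281.RT
end

-- part: H281/RT/RowFi23
section
set_option linter.all false
open scoped Cfsg.Agent.FastGrp

/-!
# `NoRT` for `Fi23` (helper281, for S3126)
-/

set_option autoImplicit false

namespace Cfsg.Agent.H281.RT

open Cfsg Subgroup Cfsg.Agent.H335

/-- `u h`, `v h` in `D`, `u v`, `h i` commuting elements of order 2 and 3 -/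
theorem false_of_uv {K : Type*} [Group K] [Finite K] {D : Set K} (hD : RT D) {u v h i : K} (uu : u * u = 1)
    (vv : v * v = 1) (hh : h * h = 1) (ii : i * i = 1) (huv : Commute u v) (huh : Commute u h) (hui : Commute u i)
    (hvh : Commute v h) (hvi : Commute v i) (h3 : (h * i) ^ 3 = 1) (hi1 : h * i ≠ 1) (huv1 : u * v ≠ 1)
    (h1 : u * h ∈ D) (h2 : v * h ∈ D) : False := by
  have hhi : h⁻¹ = h := inv_eq_of_mul_eq_one_right hh
  have hii : i⁻¹ = i := inv_eq_of_mul_eq_one_right ii
  have e : h * i * (h * i) * (h * i) = 1 := by rw [← h3]; simp only [pow_succ, pow_zero, one_mul]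
  have hgi : (h * i) * h * (h * i)⁻¹ = i := by
    rw [mul_inv_rev, hhi, hii]
    calc h * i * h * (i * h) = (h * i * (h * i) * (h * i)) * i⁻¹ := by group
      _ = i := by rw [e, one_mul, hii]
  have hvg : Commute v (h * i) := hvh.mul_right hvi
  have h4 : v * i ∈ D := by
    have h5 := hD.conj _ h2 (h * i)
    have e2 : h * i * (v * h) * (h * i)⁻¹ = v * i := by
      calc h * i * (v * h) * (h * i)⁻¹ = (h * i * v) * h * (h * i)⁻¹ := by group
        _ = v * ((h * i) * h * (h * i)⁻¹) := by rw [← hvg.eq]; group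
        _ = v * i := by rw [hgi]
    rwa [e2] at h5
  have hc : Commute (u * v) (h * i) := (huh.mul_right hui).mul_left hvg
  have e3 : u * h * (v * i) = (u * v) * (h * i) := by
    calc u * h * (v * i) = u * (h * v) * i := by group
      _ = u * v * (h * i) := by rw [← hvh.eq]; group
  have huv2 : (u * v) * (u * v) = 1 := by
    calc (u * v) * (u * v) = u * (v * u) * v := by group
      _ = (u * u) * (v * v) := by rw [← huv.eq]; group
      _ = 1 := by rw [uu, vv, one_mul]
  have hp : ∀ n : ℕ, (u * h * (v * i)) ^ n = (u * v) ^ n * (h * i) ^ n := by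
    intro n
    rw [e3]
    exact hc.mul_pow n
  refine false_of_six hD h1 h4 ?_ ?_ ?_
  · rw [hp, show (6 : ℕ) = 2 * 3 by norm_num, pow_mul, pow_two (u * v), huv2, one_pow, one_mul, mul_comm 2 3, pow_mul,
      h3, one_pow]
  · rw [hp, h3, mul_one, pow_succ, pow_two, huv2, one_mul]
    exact huv1
  · rw [hp, pow_two (u * v), huv2, one_mul]
    intro h5
    apply hi1
    rw [pow_succ, h5, one_mul] at h3
    exact h3

section Fi23

open Cfsg.Spor.Fi23 (Gen)
open Cfsg.Agent.Fischer.Fi23Hom Cfsg.Agent.Fischer.Fi23Final Cfsg.Agent.Fischer.Fi23Class Cfsg.Agent.Fischer.Fi23Z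
open Cfsg.Agent.KFacts.FiTTh

theorem row_fi23 (T : Type*) [Group T] [Finite T] (h : Spor.IsoFi23 T) : NoRT T := by
  obtain ⟨e⟩ := h
  have hf : Finite Spor.Fi23 := Finite.of_equiv T e.toEquiv
  refine NoRT.congr ?_ e.symm
  intro D hD hne
  obtain ⟨x, hx⟩ := hne
  have hE : BasFi.e (some (Has.s 0)) = z0 := by rw [Has.s0, BasFi.e_z]
  have hA : BasFi.e (some (Has.s 1)) = gen .a := by rw [Has.s1, BasFi.e_a]
  have hC : BasFi.e (some (Has.s 2)) = gen .c := by rw [Has.s2, BasFi.e_c]
  have hEE : BasFi.e (some (Has.s 13)) = gen .e := by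
    rw [show Has.s 13 = 2 by decide +kernel, BasFi.e_e]
  have hH : BasFi.e (some (Has.s 3)) = gen .h := by
    rw [show Has.s 3 = 3 by decide +kernel, BasFi.e_h]
  have cm : ∀ x y : Gen, Spor.coxLabel Spor.Fi23.edges x y = 2 → Commute (gen x) (gen y) := fun x y hxy => gen_comm x y hxy
  have hne : ∀ i j : Fin 23, i ≠ j → BasFi.e (some (Has.s i)) * BasFi.e (some (Has.s j)) ≠ 1 := by
    intro i j hij h1
    apply hij
    have h2 : BasFi.e (some (Has.s i)) = BasFi.e (some (Has.s j)) := by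
      rw [mul_eq_one_iff_eq_inv.1 h1]
      exact inv_eq_of_mul_eq_one_right (BasFi.e_sq _)
    exact Has.s.injective (Option.some_injective _ (BasFi.e_inj h2))
  have h3 : (gen .h * gen .i) ^ 3 = 1 := gen_rel .h .i
  have hi1 : gen .h * gen .i ≠ 1 := by
    -- if `x y` has order dividing 2 and 3, then `x = y`
    have key : ∀ x y : Gen, Spor.coxLabel Spor.Fi23.edges x y = 3 → Commute (gen x) (gen y) → gen x = gen y := by
      intro x y hxy hc
      have h4 : (gen x * gen y) ^ 3 = 1 := by rw [← hxy]; exact gen_rel x y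
      have h5 : (gen x * gen y) ^ 2 = 1 := by rw [hc.mul_pow, pow_two, pow_two, gen_sq, gen_sq, one_mul]
      rw [pow_succ, h5, one_mul] at h4
      rw [mul_eq_one_iff_eq_inv.1 h4]
      exact inv_eq_of_mul_eq_one_right (gen_sq _)
    intro h4
    have h5 : gen .h = gen .i := by
      rw [mul_eq_one_iff_eq_inv.1 h4]
      exact inv_eq_of_mul_eq_one_right (gen_sq _)
    have h6 : gen .d = gen .h := key .d .h (by decide) (by rw [h5]; exact cm .d .i (by decide))
    have h7 : gen .c = gen .d := key .c .d (by decide) (by rw [h6]; exact cm .c .h (by decide))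
    apply hne 2 3 (by decide)
    rw [hC, hH, h7, h6, gen_sq]
  have hi := hD.sq hx
  have hx1 := hD.ne_one hx
  rcases Has.inv x hi hx1 with h1 | h1 | h1
  · -- 2A
    have hz : z0 ∈ D := hD.of_isConj hx h1
    obtain ⟨n, -, hn1, hn2, hn3⟩ := Has.three 0 1 2 1 3 2 (by decide) (by decide) (by decide) (by decide) (by decide)
      (by decide)
    obtain ⟨m, -, hm1, hm2, hm3⟩ := Has.three 0 1 2 3 1 2 (by decide) (by decide) (by decide) (by decide) (by decide)
      (by decide)
    rw [hE, hA] at hn1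
    rw [hE, hH] at hm1
    have ha : gen .a ∈ D := by rw [← hn1]; exact hD.conj _ hz n
    have hh : gen .h ∈ D := by rw [← hm1]; exact hD.conj _ hz m
    have hah : gen .a * gen .h ∈ D := hD.mul _ ha _ hh (by
      intro h2
      apply hne 1 3 (by decide)
      rw [hA, hH, h2, gen_sq]) (cm _ _ (by decide))
    exact false_of_uv hD (u := 1) (v := gen .a) (h := gen .h) (i := gen .i) (one_mul 1) (gen_sq _) (gen_sq _) (gen_sq _)
      (Commute.one_left _) (Commute.one_left _) (Commute.one_left _) (cm _ _ (by decide)) (cm _ _ (by decide)) h3 hi1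
      (by rw [one_mul]; exact hD.ne_one ha) (by rwa [one_mul]) hah
  · -- 2B
    have hz : z0 * gen .a ∈ D := hD.of_isConj hx h1
    obtain ⟨n, -, hn1, hn2, hn3⟩ := Has.three 0 1 2 1 3 2 (by decide) (by decide) (by decide) (by decide) (by decide)
      (by decide)
    obtain ⟨m, -, hm1, hm2, hm3⟩ := Has.three 0 1 2 2 3 1 (by decide) (by decide) (by decide) (by decide) (by decide)
      (by decide)
    rw [hE, hA] at hn1
    rw [hA, hH] at hn2 hm2
    rw [hE, hC] at hm1
    have hah : gen .a * gen .h ∈ D := by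
      have := hD.conj _ hz n
      rwa [show n * (z0 * gen .a) * n⁻¹ = (n * z0 * n⁻¹) * (n * gen .a * n⁻¹) by group, hn1, hn2] at this
    have hch : gen .c * gen .h ∈ D := by
      have := hD.conj _ hz m
      rwa [show m * (z0 * gen .a) * m⁻¹ = (m * z0 * m⁻¹) * (m * gen .a * m⁻¹) by group, hm1, hm2] at this
    exact false_of_uv hD (u := gen .a) (v := gen .c) (h := gen .h) (i := gen .i) (gen_sq _) (gen_sq _) (gen_sq _) (gen_sq _)
      (cm _ _ (by decide)) (cm _ _ (by decide)) (cm _ _ (by decide)) (cm _ _ (by decide)) (cm _ _ (by decide)) h3 hi1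
      (by rw [← hA, ← hC]; exact hne 1 2 (by decide)) hah hch
  · -- 2C
    have hz : z0 * gen .a * gen .c ∈ D := hD.of_isConj hx h1
    obtain ⟨n, -, hn1, hn2, hn3⟩ := Has.three 0 1 2 1 2 3 (by decide) (by decide) (by decide) (by decide) (by decide)
      (by decide)
    obtain ⟨m, -, hm1, hm2, hm3⟩ := Has.three 0 1 2 1 13 3 (by decide) (by decide) (by decide) (by decide) (by decide)
      (by decide)
    rw [hE, hA] at hn1 hm1
    rw [hA, hC] at hn2
    rw [hA, hEE] at hm2
    rw [hC, hH] at hn3 hm3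
    have hah : gen .a * gen .c * gen .h ∈ D := by
      have := hD.conj _ hz n
      rwa [show n * (z0 * gen .a * gen .c) * n⁻¹ = (n * z0 * n⁻¹) * (n * gen .a * n⁻¹) * (n * gen .c * n⁻¹) by group,
        hn1, hn2, hn3] at this
    have hch : gen .a * gen .e * gen .h ∈ D := by
      have := hD.conj _ hz m
      rwa [show m * (z0 * gen .a * gen .c) * m⁻¹ = (m * z0 * m⁻¹) * (m * gen .a * m⁻¹) * (m * gen .c * m⁻¹) by group,
        hm1, hm2, hm3] at this
    have sq2 : ∀ x y : Gen, Spor.coxLabel Spor.Fi23.edges x y = 2 → gen x * gen y * (gen x * gen y) = 1 := by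
      intro x y hxy
      calc gen x * gen y * (gen x * gen y) = gen x * (gen y * gen x) * gen y := by group
        _ = (gen x * gen x) * (gen y * gen y) := by rw [← (cm x y hxy).eq]; group
        _ = 1 := by rw [gen_sq, gen_sq, one_mul]
    have cac := cm .a .c (by decide)
    have cae := cm .a .e (by decide)
    have cce := cm .c .e (by decide)
    exact false_of_uv hD (u := gen .a * gen .c) (v := gen .a * gen .e) (h := gen .h) (i := gen .i) (sq2 _ _ (by decide))
      (sq2 _ _ (by decide)) (gen_sq _) (gen_sq _)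
      (((Commute.refl _).mul_right cae).mul_left (cac.symm.mul_right cce))
      ((cm _ _ (by decide)).mul_left (cm _ _ (by decide))) ((cm _ _ (by decide)).mul_left (cm _ _ (by decide)))
      ((cm _ _ (by decide)).mul_left (cm _ _ (by decide))) ((cm _ _ (by decide)).mul_left (cm _ _ (by decide))) h3 hi1
      (by
        have e2 : gen .a * gen .c * (gen .a * gen .e) = gen .c * gen .e := by
          calc gen .a * gen .c * (gen .a * gen .e) = (gen .a * gen .c) * gen .a * gen .e := by group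
            _ = gen .c * (gen .a * gen .a) * gen .e := by rw [cac.eq]; group
            _ = gen .c * gen .e := by rw [gen_sq, mul_one]
        rw [e2, ← hC, ← hEE]
        exact hne 2 13 (by decide)) hah hch

end Fi23

end Cfsg.Agent.H281.RT
end

-- part: H281/RT/RowM12
section
set_option linter.all false
open scoped Cfsg.Agent.FastGrp

/-!
# `NoRT` for `M12` (helper281, for S3126)
-/

set_option autoImplicit false

namespace Cfsg.Agent.H281.RT

open Cfsg Subgroup Cfsg.Agent.H335 Cfsg.Agent.CoThreeStd.M12 Cfsg.Agent.Omega.Quasithin.M12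

/-- a self-centralising normal 2-subgroup of `C(z)` with centre `⟨z⟩` -/
theorem mem_of_Q {K : Type*} [Group K] [Finite K] {z : K} {Q : Subgroup K} (hQ : IsPGroup 2 Q)
    (hn : ∀ g : K, g * z = z * g → ∀ x ∈ Q, g * x * g⁻¹ ∈ Q)
    (hs : ∀ g : K, g * z = z * g → (∀ x ∈ Q, g * x = x * g) → g ∈ Q)
    (hu : ∀ y ∈ Q, y * y = 1 → y ≠ 1 → (∀ x ∈ Q, x * y = y * x) → y = z)
    (hS : ∃ S : Sylow 2 K, ∀ x ∈ S, x * z = z * x) (hz : z * z = 1) {D : Set K} (hD : RT D) (hne : D.Nonempty) :
    z ∈ D := by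
  have hp2 : Fact (Nat.Prime 2) := ⟨Nat.prime_two⟩
  obtain ⟨S, hS⟩ := hS
  -- `z ∈ S` and `Q ≤ S`
  have hzS : z ∈ S := by
    have h1 : IsPGroup 2 (zpowers z) := by
      intro ⟨y, hy⟩
      obtain ⟨n, rfl⟩ := mem_zpowers_iff.1 hy
      refine ⟨1, Subtype.ext ?_⟩
      show (z ^ n) ^ 2 ^ 1 = 1
      rw [pow_one, sq, ← zpow_add, ← two_mul, zpow_mul]
      have : z ^ (2 : ℤ) = 1 := by rw [zpow_two, hz]
      rw [this, one_zpow]
    have h2 : (S : Subgroup K) ≤ normalizer (zpowers z : Set K) := by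
      intro s hs
      rw [mem_normalizer_iff]
      intro x
      constructor
      · rintro ⟨n, rfl⟩
        refine ⟨n, ?_⟩
        have h3 : Commute s z := hS s hs
        show z ^ n = s * z ^ n * s⁻¹
        rw [(h3.zpow_right n).eq, mul_inv_cancel_right]
      · rintro ⟨n, hn⟩
        refine ⟨n, ?_⟩
        have h3 : Commute s z := hS s hs
        have h4 : x = s⁻¹ * (s * x * s⁻¹) * s := by group
        show z ^ n = x
        rw [h4, ← hn]
        change z ^ n = s⁻¹ * z ^ n * s
        rw [mul_assoc, ← (h3.zpow_right n).eq, inv_mul_cancel_left]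
    have h3 : IsPGroup 2 ((S : Subgroup K) ⊔ zpowers z : Subgroup K) := S.isPGroup'.to_sup_of_normal_right' h1 h2
    have h4 := S.is_maximal' h3 le_sup_left
    have h5 : z ∈ (S : Subgroup K) ⊔ zpowers z := le_sup_right (a := (S : Subgroup K)) (mem_zpowers z)
    rw [h4] at h5
    exact h5
  have hQS : Q ≤ S := by
    have h2 : (S : Subgroup K) ≤ normalizer (Q : Set K) := by
      intro s hs
      rw [mem_normalizer_iff]
      intro x
      constructor
      · exact hn s (hS s hs) x
      · intro hx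
        have h3 : s⁻¹ * z = z * s⁻¹ := (show Commute s z from hS s hs).inv_left
        have h4 := hn s⁻¹ h3 _ hx
        rwa [show s⁻¹ * (s * x * s⁻¹) * s⁻¹⁻¹ = x by group] at h4
    have h3 : IsPGroup 2 ((S : Subgroup K) ⊔ Q : Subgroup K) := S.isPGroup'.to_sup_of_normal_right' hQ h2
    have h4 := S.is_maximal' h3 le_sup_left
    rw [← h4]
    exact le_sup_right
  obtain ⟨y, hyD, hyS, hy⟩ := hD.exists_central S hne
  have hyQ : y ∈ Q := hs y (hS y hyS) fun x hx => (hy x (hQS hx)).symm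
  rw [← hu y hyQ (hD.sq hyD) (hD.ne_one hyD) fun x hx => hy x (hQS hx)]
  exact hyD

theorem row_m12 {T : Type*} [Group T] (h : Spor.IsoM12 T) : NoRT T := by
  have hf : Finite G12 := Nat.finite_of_card_ne_zero (by rw [Out.card_G12]; norm_num)
  obtain ⟨e⟩ := h
  refine NoRT.congr ?_ (e.trans equiv).symm
  intro D hD hne
  have hz : z ∈ D := mem_of_Q isPGroup_Q conj_mem_Q self_Q (fun y hy h1 h2 h3 => eq_z_of_comm hy h1 h2 h3) exists_sylow
    zz hD hne
  have hi : (el [2, 5])⁻¹ = el [5, 2] := by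
    rw [inv_eq_iff_mul_eq_one, ← el_append, ← el_nil]
    exact el_eq (by decide +kernel)
  have e1 : ∀ n : ℕ, (z * (el [2, 5] * z * (el [2, 5])⁻¹)) ^ n = el ((List.replicate n [1, 4, 2, 5, 1, 4, 5, 2]).flatten) := by
    intro n
    induction n with
    | zero => rfl
    | succ n ih =>
      rw [pow_succ', ih, hi, z, ← el_append, ← el_append, ← el_append, ← el_append]
      rfl
  refine false_of_six hD hz (hD.conj z hz (el [2, 5])) ?_ ?_ ?_
  · rw [e1, ← el_nil]
    exact el_eq (by decide +kernel)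
  · rw [e1, ← el_nil, Ne, el_eq_iff]
    decide +kernel
  · rw [e1, ← el_nil, Ne, el_eq_iff]
    decide +kernel

end Cfsg.Agent.H281.RT
end

-- part: H281/RT/RowFi22
section
set_option linter.all false
open scoped Cfsg.Agent.FastGrp

/-!
# `NoRT` for `Fi22` (helper281, for S3126)
-/

set_option autoImplicit false

namespace Cfsg.Agent.H281.RT

open Cfsg Subgroup Cfsg.Agent.H335
open Cfsg.Agent.OddHalf.D4.Spor (Cen)

/-- an element of order two centralising a Sylow 2-subgroup is in it -/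
theorem mem_of_cent {K : Type*} [Group K] [Finite K] {z : K} (hz : z * z = 1) {S : Sylow 2 K}
    (hS : ∀ x ∈ S, x * z = z * x) : z ∈ S := by
  have hp2 : Fact (Nat.Prime 2) := ⟨Nat.prime_two⟩
  have h1 : IsPGroup 2 (zpowers z) := by
    intro ⟨y, hy⟩
    obtain ⟨n, rfl⟩ := mem_zpowers_iff.1 hy
    refine ⟨1, Subtype.ext ?_⟩
    show (z ^ n) ^ 2 ^ 1 = 1
    rw [pow_one, pow_two, ← (Commute.refl z).mul_zpow, hz, one_zpow]
  have h2 : (S : Subgroup K) ≤ normalizer (zpowers z : Set K) := by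
    intro s hs
    rw [mem_normalizer_iff]
    have h3 : Commute s z := hS s hs
    intro x
    constructor
    · rintro ⟨n, rfl⟩
      refine ⟨n, ?_⟩
      show z ^ n = s * z ^ n * s⁻¹
      rw [(h3.zpow_right n).eq, mul_inv_cancel_right]
    · rintro ⟨n, hn⟩
      refine ⟨n, ?_⟩
      have h4 : x = s⁻¹ * (s * x * s⁻¹) * s := by group
      show z ^ n = x
      rw [h4, ← hn]
      change z ^ n = s⁻¹ * z ^ n * s
      rw [mul_assoc, ← (h3.zpow_right n).eq, inv_mul_cancel_left]
  have h3 : IsPGroup 2 ((S : Subgroup K) ⊔ zpowers z : Subgroup K) := S.isPGroup'.to_sup_of_normal_right' h1 h2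
  have h4 := S.is_maximal' h3 le_sup_left
  have h5 : z ∈ (S : Subgroup K) ⊔ zpowers z := le_sup_right (a := (S : Subgroup K)) (mem_zpowers z)
  rw [h4] at h5
  exact h5

/-- if the centre of a Sylow 2-subgroup has only one involution, `D` contains the 2-central involutions -/
theorem mem_of_cen {K : Type*} [Group K] [Finite K]
    (z1 : ∀ S : Sylow 2 K, ∀ a ∈ S, a * a = 1 → a ≠ 1 → (∀ s ∈ S, s * a = a * s) →
      ∀ b ∈ S, b * b = 1 → b ≠ 1 → (∀ s ∈ S, s * b = b * s) → a = b) {D : Set K} (hD : RT D) (hne : D.Nonempty)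
    {w : K} (hw : w * w = 1) (hw1 : w ≠ 1) (hc : Cen w) : w ∈ D := by
  obtain ⟨S, hS⟩ := hc
  obtain ⟨z, hzD, hzS, hz⟩ := hD.exists_central S hne
  have h1 := z1 S z hzS (hD.sq hzD) (hD.ne_one hzD) hz w (mem_of_cent hw hS) hw hw1 hS
  rwa [← h1]

section Fi22

open Cfsg.Spor.Fi22 (Gen)
open Cfsg.Agent.Fischer.Fi22PtsRep (gen gen_sq)

theorem gen_rel22 (x y : Gen) (hx : x ∈ Spor.coxNodes Spor.Fi22.edges) (hy : y ∈ Spor.coxNodes Spor.Fi22.edges) :
    (gen x * gen y) ^ Spor.coxLabel Spor.Fi22.edges x y = 1 := by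
  have h : (PresentedGroup.mk _ ((FreeGroup.of x * FreeGroup.of y) ^ Spor.coxLabel Spor.Fi22.edges x y) : Spor.Fi22) = 1 :=
    PresentedGroup.one_of_mem (Or.inl ⟨x, hx, y, hy, rfl⟩)
  rw [map_pow, map_mul] at h
  exact h

theorem mem_nodes (x : Gen) : x ∈ Spor.coxNodes Spor.Fi22.edges := by cases x <;> decide

theorem row_fi22 (T : Type*) [Group T] [Finite T] (h : Spor.IsoFi22 T) : NoRT T := by
  obtain ⟨e⟩ := h
  have hf : Finite Spor.Fi22 := Finite.of_equiv T e.toEquiv
  refine NoRT.congr ?_ e.symm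
  intro D hD hne
  have hxD := hne
  obtain ⟨x, hx⟩ := hxD
  have hrel := fun x y => gen_rel22 x y (mem_nodes x) (mem_nodes y)
  have cm : ∀ x y : Gen, Spor.coxLabel Spor.Fi22.edges x y = 2 → Commute (gen x) (gen y) := by
    intro x y hxy
    have h1 := hrel x y
    rw [hxy, pow_two] at h1
    have h2 := eq_inv_of_mul_eq_one_left h1
    rw [mul_inv_rev, inv_eq_of_mul_eq_one_right (gen_sq x), inv_eq_of_mul_eq_one_right (gen_sq y)] at h2
    exact h2
  have key : ∀ x y : Gen, Spor.coxLabel Spor.Fi22.edges x y = 3 → Commute (gen x) (gen y) → gen x = gen y := by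
    intro x y hxy hc
    have h4 : (gen x * gen y) ^ 3 = 1 := by rw [← hxy]; exact hrel x y
    have h5 : (gen x * gen y) ^ 2 = 1 := by rw [hc.mul_pow, pow_two, pow_two, gen_sq, gen_sq, one_mul]
    rw [pow_succ, h5, one_mul] at h4
    rw [mul_eq_one_iff_eq_inv.1 h4]
    exact inv_eq_of_mul_eq_one_right (gen_sq _)
  have hne1 : ∀ x y : Gen, gen x ≠ gen y → gen x * gen y ≠ 1 := by
    intro x y hxy h1
    apply hxy
    rw [mul_eq_one_iff_eq_inv.1 h1]
    exact inv_eq_of_mul_eq_one_right (gen_sq _)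
  have hhi : gen .h ≠ gen .i := by
    intro h1
    have h2 : gen .d = gen .h := key .d .h (by decide) (by rw [h1]; exact cm .d .i (by decide))
    have h3 : gen .c = gen .d := key .c .d (by decide) (by rw [h2]; exact cm .c .h (by decide))
    have h4 : gen .b = gen .c := key .b .c (by decide) (by rw [h3]; exact cm .b .d (by decide))
    have h5 : gen .a = gen .b := key .a .b (by decide) (by rw [h4]; exact cm .a .c (by decide))
    have h6 : gen .d = gen .e := key .d .e (by decide) (by rw [h2]; exact cm .h .e (by decide))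
    have h7 : gen .e = gen .f := key .e .f (by decide) (by rw [← h6]; exact cm .d .f (by decide))
    have h8 : gen .f = gen .g := key .f .g (by decide) (by rw [← h7]; exact cm .e .g (by decide))
    have hall : ∀ x : Gen, gen x = gen .h := by
      intro x
      cases x
      · rw [h5, h4, h3, h2]
      · rw [h4, h3, h2]
      · rw [h3, h2]
      · rw [h2]
      · rw [← h6, h2]
      · rw [← h7, ← h6, h2]
      · rw [← h8, ← h7, ← h6, h2]
      · rfl
      · exact h1.symm
    have htop : ∀ y : Spor.Fi22, y ∈ zpowers (gen .h) := by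
      intro y
      have h9 : y ∈ closure (Set.range (PresentedGroup.of : Gen → Spor.Fi22)) := by
        rw [PresentedGroup.closure_range_of]; exact mem_top y
      refine (closure_le _).2 ?_ h9
      rintro _ ⟨x, rfl⟩
      show gen x ∈ zpowers (gen .h)
      rw [hall x]
      exact mem_zpowers _
    apply hD.ne_one hx
    apply Cfsg.Agent.StdFi22.MainFi22.center_eq
    intro y
    obtain ⟨n, rfl⟩ := mem_zpowers_iff.1 (htop x)
    obtain ⟨m, rfl⟩ := mem_zpowers_iff.1 (htop y)
    exact (Commute.refl (gen .h)).zpow_zpow n m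
  have hch : gen .c ≠ gen .h := by
    intro h1
    exact hhi (key .h .i (by decide) (by rw [← h1]; exact cm .c .i (by decide)))
  have hah : gen .a ≠ gen .h := by
    intro h1
    have h2 : gen .d = gen .h := key .d .h (by decide) (by rw [← h1]; exact cm .d .a (by decide))
    exact hch (by
      rw [← h2]
      exact key .c .d (by decide) (by rw [h2]; exact cm .c .h (by decide)))
  have hac : gen .a ≠ gen .c := by
    intro h1
    have h2 : gen .d = gen .c := (key .c .d (by decide) (by rw [← h1]; exact cm .a .d (by decide))).symm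
    exact hch (by
      rw [← h2]
      exact key .d .h (by decide) (by rw [h2]; exact cm .c .h (by decide)))
  have z1 := Cfsg.Agent.OddHalf.D4.Spor.Fi22.sheet0.z1
  have hmem : ∀ x y : Gen, gen x ≠ gen y → Spor.coxLabel Spor.Fi22.edges x y = 2 → gen x * gen y ∈ D := by
    intro x y hxy h2
    refine mem_of_cen z1 hD hne ?_ (hne1 x y hxy)
      (Cfsg.Agent.OddHalf.D4.Spor.Fi22.cen_two (Cfsg.Agent.R01.Fi22Facts.gen_mem x) (Cfsg.Agent.R01.Fi22Facts.gen_mem y)
        hxy (cm x y h2))
    calc gen x * gen y * (gen x * gen y) = gen x * (gen y * gen x) * gen y := by group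
      _ = (gen x * gen x) * (gen y * gen y) := by rw [← (cm x y h2).eq]; group
      _ = 1 := by rw [gen_sq, gen_sq, one_mul]
  exact false_of_uv hD (u := gen .a) (v := gen .c) (h := gen .h) (i := gen .i) (gen_sq _) (gen_sq _) (gen_sq _) (gen_sq _)
    (cm _ _ (by decide)) (cm _ _ (by decide)) (cm _ _ (by decide)) (cm _ _ (by decide)) (cm _ _ (by decide))
    (hrel .h .i) (hne1 _ _ hhi) (hne1 _ _ hac) (hmem _ _ hah (by decide)) (hmem _ _ hch (by decide))

end Fi22

end Cfsg.Agent.H281.RT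
end

-- part: H281/RT/RowsMT
section
set_option linter.all false
open scoped Cfsg.Agent.FastGrp

/-!
# `NoRT` for `McL, Ly` (helper281, for S3126)
-/

set_option autoImplicit false

namespace Cfsg.Agent.H281.RT

open Cfsg Subgroup Cfsg.Agent.H335 Equiv Cfsg.Agent.SporRec.TwoAn Cfsg.Agent.TypeM.Two

/-- `C(t) ≅ 2.A_n`, one class of involutions -/
theorem noRT_of_mt {n : ℕ} {G : Type*} [Group G] [Finite G] (L : MT n G) (σ τ : Perm (Fin n))
    (hσ : σ * σ = 1) (hτ : τ * τ = 1) (hσA : σ ∈ alternatingGroup (Fin n)) (hτA : τ ∈ alternatingGroup (Fin n))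
    (h8σ : 8 ∣ σ.support.card) (h8τ : 8 ∣ τ.support.card) (hσ1 : σ ≠ 1) (hτ1 : τ ≠ 1) (h4 : (σ * τ) ^ 4 ≠ 1) :
    NoRT G := by
  obtain ⟨a, ha⟩ := L.K.exists_lift hσA
  obtain ⟨b, hb⟩ := L.K.exists_lift hτA
  have ha2 : a * a = 1 := L.K.sq_eq_one_iff.2 ⟨by rw [ha]; exact hσ, by rw [ha]; exact h8σ⟩
  have hb2 : b * b = 1 := L.K.sq_eq_one_iff.2 ⟨by rw [hb]; exact hτ, by rw [hb]; exact h8τ⟩
  have ha1 : (a : G) ≠ 1 := by
    intro h
    apply hσ1
    rw [← ha, show a = 1 from Subtype.ext h, map_one]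
  have hb1 : (b : G) ≠ 1 := by
    intro h
    apply hτ1
    rw [← hb, show b = 1 from Subtype.ext h, map_one]
  intro D hD hne
  have hall : ∀ s : G, s * s = 1 → s ≠ 1 → s ∈ D := by
    intro s hs hs1
    obtain ⟨d, hd⟩ := hne
    obtain ⟨g, hg⟩ := L.one d (hD.sq hd) (hD.ne_one hd)
    obtain ⟨k, hk⟩ := L.one s hs hs1
    rw [← hk]
    refine hD.conj _ ?_ k
    have h1 := hD.conj_mem' hd g
    rwa [← hg, show g⁻¹ * (g * L.t * g⁻¹) * g = L.t by group] at h1
  refine absurd (hD.pow_four (hall L.t L.t_mul_t L.t_ne) (hall a (congrArg Subtype.val ha2) ha1)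
    (hall b (congrArg Subtype.val hb2) hb1) (mem_centralizer_singleton_iff.1 a.2)
    (mem_centralizer_singleton_iff.1 b.2)) ?_
  intro h
  apply h4
  have h5 : (a * b) ^ 4 = 1 := Subtype.ext h
  rw [← ha, ← hb, ← map_mul, ← map_pow, h5, map_one]

theorem row_mcl {T : Type*} [Group T] (h : Spor.IsoMcL T) : NoRT T := by
  obtain ⟨hf, -, -, ⟨L⟩⟩ := TypeM.FactsMcL.facts h
  exact noRT_of_mt L (swap 0 1 * swap 2 3 * swap 4 5 * swap 6 7) (swap 1 2 * swap 3 4 * swap 5 0 * swap 6 7)
    (by decide) (by decide) (by rw [Perm.mem_alternatingGroup]; decide) (by rw [Perm.mem_alternatingGroup]; decide)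
    (by decide) (by decide) (by decide) (by decide) (by decide +kernel)

theorem row_ly {T : Type*} [Group T] (h : Spor.IsoLy T) : NoRT T := by
  obtain ⟨hf, -, -, ⟨L⟩⟩ := TypeM.FactsLy.facts h
  exact noRT_of_mt L (swap 0 1 * swap 2 3 * swap 4 5 * swap 6 7) (swap 1 2 * swap 3 4 * swap 5 0 * swap 6 7)
    (by decide) (by decide) (by rw [Perm.mem_alternatingGroup]; decide) (by rw [Perm.mem_alternatingGroup]; decide)
    (by decide) (by decide) (by decide) (by decide) (by decide +kernel)

end Cfsg.Agent.H281.RT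
end

-- part: H281/RT/RowHe
section
set_option linter.all false
open scoped Cfsg.Agent.FastGrp

/-!
# `NoRT` for the Held group (helper281, for S3126)
-/

set_option autoImplicit false

namespace Cfsg.Agent.H281.RT

open Cfsg Subgroup Cfsg.Agent.H335 Cfsg.Spor Cfsg.Spor.He Cfsg.Agent.SporadicB.HePerm

theorem he_one {w : List Gen} (h : ([0, 1, 32, 8].all fun i => Nat.beq (act w i) i) = true) : wd w = 1 := by
  rw [List.all_eq_true] at h
  have key : ∀ i : Fin 2058, i.val ∈ [0, 1, 32, 8] → phi (wd w) i = phi 1 i := by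
    intro i hi
    apply Fin.ext
    rw [phi_wd_apply, map_one]
    exact Nat.eq_of_beq_eq_true (h _ hi)
  exact Cfsg.Agent.KFacts.He.Words.eq_of_base (key 0 (by decide)) (key 1 (by decide)) (key 32 (by decide))
    (key 8 (by decide))

theorem he_ne {w : List Gen} {i : ℕ} (hi : i < 2058) (h : Nat.beq (act w i) i = false) : wd w ≠ 1 := by
  intro h1
  have h2 := phi_wd_apply w ⟨i, hi⟩
  rw [h1, map_one] at h2
  have h3 : act w i = i := h2.symm
  rw [h3] at h
  simp at h

theorem wd_append' (u v : List Gen) : wd (u ++ v) = wd u * wd v := by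
  unfold wd; rw [List.map_append, List.prod_append]

theorem he_kill {D : Set Spor.He} (hD : RT D) (x : Gen) (w w' : List Gen)
    (h0 : ([0, 1, 32, 8].all fun i => Nat.beq (act (w ++ w') i) i) = true)
    (hx : wd [x] ∈ D)
    (h6 : ([0, 1, 32, 8].all fun i => Nat.beq (act ((List.replicate 6 ([x] ++ (w ++ ([x] ++ w')))).flatten) i) i) = true)
    {i : ℕ} (hi : i < 2058)
    (h3 : Nat.beq (act ((List.replicate 3 ([x] ++ (w ++ ([x] ++ w')))).flatten) i) i = false)
    (h2 : Nat.beq (act ((List.replicate 2 ([x] ++ (w ++ ([x] ++ w')))).flatten) i) i = false) : False := by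
  have h1 : (wd w)⁻¹ = wd w' := by
    rw [inv_eq_iff_mul_eq_one, ← wd_append']
    exact he_one h0
  have e1 : ∀ n : ℕ, (wd [x] * (wd w * wd [x] * (wd w)⁻¹)) ^ n =
      wd ((List.replicate n ([x] ++ (w ++ ([x] ++ w')))).flatten) := by
    intro n
    induction n with
    | zero => rw [pow_zero]; rfl
    | succ n ih =>
      rw [pow_succ', ih, h1, List.replicate_succ, List.flatten_cons, wd_append', wd_append', wd_append', wd_append']
      group
  refine false_of_six hD hx (hD.conj _ hx (wd w)) ?_ ?_ ?_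
  · rw [e1]; exact he_one h6
  · rw [e1]; exact he_ne hi h3
  · rw [e1]; exact he_ne hi h2

theorem row_he {T : Type*} [Group T] (h : Spor.IsoHe T) : NoRT T := by
  obtain ⟨e⟩ := h
  refine NoRT.congr ?_ e.symm
  have hf : Finite Spor.He := Nat.finite_of_card_ne_zero (by rw [Cfsg.Agent.KFacts.He.Classes.card_he]; norm_num)
  intro D hD hne
  obtain ⟨t, ht⟩ := hne
  have hw : ∀ x : Gen, wd [x] = PresentedGroup.of x := by
    intro x; unfold wd; simp
  rcases Cfsg.Agent.KFacts.He.Classes.two_classes_ad (hD.sq ht) (hD.ne_one ht) with ⟨g, hg⟩ | ⟨g, hg⟩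
  · have h1 : wd [.d] ∈ D := by
      rw [hw]
      have h1 := hD.conj_mem' ht g
      rwa [← hg, show g⁻¹ * (g * PresentedGroup.of Gen.d * g⁻¹) * g = PresentedGroup.of Gen.d by group] at h1
    exact he_kill hD .d [.c, .d, .c, .d, .b, .c] [.c, .b, .d, .c, .d, .c] (by decide +kernel) h1 (by decide +kernel)
      (i := 2) (by norm_num) (by decide +kernel) (by decide +kernel)
  · have h1 : wd [.a] ∈ D := by
      rw [hw]
      have h1 := hD.conj_mem' ht g
      rwa [← hg, show g⁻¹ * (g * PresentedGroup.of Gen.a * g⁻¹) * g = PresentedGroup.of Gen.a by group] at h1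
    exact he_kill hD .a [.b, .c, .d, .f, .c, .d, .c, .b] [.b, .c, .d, .c, .f, .d, .c, .b] (by decide +kernel) h1
      (by decide +kernel) (i := 5) (by norm_num) (by decide +kernel) (by decide +kernel)

end Cfsg.Agent.H281.RT
end

-- part: H335/RT/Chev
section
set_option linter.all false
open scoped Cfsg.Agent.FastGrp

/-!
# Chevalley groups of characteristic two without triple bonds: `RT` sets of involutions (helper335)
-/

set_option autoImplicit false
set_option linter.unusedSectionVars false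

namespace Cfsg.Agent.H335.Chev

open CoxeterSystem Cfsg.Agent.ChevalleyStructure.CoxeterGeom Cfsg.Agent.Tits.Roots Cfsg.Agent.Tits.Core
  Cfsg.Agent.Tits.RootComb Cfsg.Agent.Nodes.Comb Cfsg.Agent.Nodes.Reps Cfsg.Agent.Nodes.BNOf
open Cfsg.Lie Cfsg.Agent.ChevalleyStructure Cfsg.Agent.ChevalleyStructure.Elts
  Cfsg.Agent.ChevalleyStructure.RootVec Cfsg.Agent.ChevalleyStructure.RootVecTab
  Cfsg.Agent.ChevalleyStructure.NPerm Cfsg.Agent.ChevalleyStructure.CoxeterGeomTypes
open Cfsg.Agent.Nodes Cfsg.Agent.Nodes.RGDChev Cfsg.Agent.Nodes.Coroot Cfsg.Agent.KFacts.ChevTwo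
  Cfsg.Agent.KFacts.ChevTwoTab Cfsg.Agent.KFacts.ChevTwoInst Cfsg.Agent.Nodes.OppDec
open scoped commutatorElement

/-! ### any root group datum -/

section Rgd

variable {I W Y : Type*} [Fintype I] [DecidableEq I] [Group W] [Group Y] {M : CoxeterMatrix I}
  {cs : CoxeterSystem M W} {A : I → I → ℤ} {h : IsCartan M A} {T : Subgroup Y} {n : I → Y}
  {X : (I → ℤ) → Subgroup Y}

/-- an element of `D` in `U⁻` commuting with an element of `D ∩ Z(U)` -/
theorem false_of_neg [Finite W] [Finite Y] (R : RGD cs h 2 T n X) (hG1 : RGD.Sup X {x | IsRoot cs h x} = ⊤)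
    {D : Set Y} (hD : RT D) {w x : Y} (hw : w ∈ D) (hx : x ∈ D)
    (hwU : ∀ a ∈ RGD.Pos cs h, ∀ v ∈ X a, v * w = w * v) (hxN : x ∈ UN cs h X) (hc : Commute x w) : False := by
  have hp2 : Fact (Nat.Prime 2) := ⟨Nat.prime_two⟩
  obtain ⟨P, hP⟩ := Cfsg.Agent.KFacts.RgdAutFacts.exists_sylow R (Cfsg.Agent.KFacts.RgdRigid.GG_eq_top hG1)
  have h1 : ∀ g ∈ (P : Subgroup Y), Commute g w := by
    intro g hg
    rw [hP] at hg
    have h2 : RGD.Sup X (RGD.Pos cs h) ≤ Subgroup.centralizer {w} := by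
      refine RGD.Sup_le fun a ha v hv => ?_
      rw [Subgroup.mem_centralizer_singleton_iff]
      exact hwU a ha v hv
    exact Subgroup.mem_centralizer_singleton_iff.1 (h2 hg)
  have h2 := hD.mem_sylow P hw h1 hx hc
  rw [hP] at h2
  have h3 : x ∈ RGD.Sup X (RGD.Pos cs h) ⊓ UN cs h X := ⟨h2, hxN⟩
  rw [U_inf_UN R, Subgroup.mem_bot] at h3
  exact hD.ne_one hx h3

/-- `D` meets the centre of `U` -/
theorem exists_central_U [Finite W] [Finite Y] (R : RGD cs h 2 T n X)
    (hG1 : RGD.Sup X {x | IsRoot cs h x} = ⊤) {D : Set Y} (hD : RT D) (hne : D.Nonempty) :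
    ∃ z ∈ D, ∀ a ∈ RGD.Pos cs h, ∀ v ∈ X a, v * z = z * v := by
  have hp2 : Fact (Nat.Prime 2) := ⟨Nat.prime_two⟩
  obtain ⟨P, hP⟩ := Cfsg.Agent.KFacts.RgdAutFacts.exists_sylow R (Cfsg.Agent.KFacts.RgdRigid.GG_eq_top hG1)
  obtain ⟨z, hz, -, hzc⟩ := hD.exists_central P hne
  refine ⟨z, hz, fun a ha v hv => (hzc v ?_).eq⟩
  rw [hP]
  exact RGD.le_Sup ha hv

end Rgd

universe u

variable {D0 : ChevalleyDatum} {l : ℕ} {M : CoxeterMatrix (Fin l)} {K : Type u} [Field K]

/-- the root element with index `r` -/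
noncomputable def E (hp : IsType D0 l M) (K : Type u) [Field K] (r : ℕ) (t : K) : ↥(D0.group K) :=
  eg hp K (vec D0 l r) t

section

variable (hp : IsType D0 l M) (hOK : TwoOK D0) [CharP K 2]

include hp hOK

theorem dat : Data M.toCoxeterSystem hp.isCartan (eg hp K) :=
  data_group hp hOK (fun t => CharTwo.add_self_eq_zero t) _

theorem cpr_eq {r s : ℕ} (hr : r < D0.nroots) (hs : s < D0.nroots) :
    cpr M.toCoxeterSystem hp.isCartan (vec D0 l s) (vec D0 l r) = carB D0 r s := by
  rw [cpr_vec hp _ hr s hs, carB_eq]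

theorem E_comm {r s : ℕ} (hr : r < D0.nroots) (hs : s < D0.nroots) (hc : 0 ≤ carB D0 r s) (t u : K) :
    Commute (E hp K s t) (E hp K r u) := by
  have hfin := finite_W hp M.toCoxeterSystem
  refine (dat hp hOK).comm_of_nonneg (isRoot_vec hp _ hs) (isRoot_vec hp _ hr) ?_ t u
  rw [cpr_eq hp hOK hr hs]
  exact hc

theorem E_add {r : ℕ} (hr : r < D0.nroots) (t u : K) : E hp K r (t + u) = E hp K r t * E hp K r u :=
  (dat hp hOK).add _ (isRoot_vec hp _ hr) t u

theorem E_sq {r : ℕ} (hr : r < D0.nroots) (t : K) : E hp K r t * E hp K r t = 1 :=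
  (dat hp hOK).sq (isRoot_vec hp _ hr) t

theorem E_zero {r : ℕ} (hr : r < D0.nroots) : E hp K r 0 = 1 := (dat hp hOK).zero (isRoot_vec hp _ hr)

/-- simple reflections -/
theorem E_refl {i r : ℕ} (hi : i < l) (hr : r < D0.nroots) (t : K) :
    nel (eg hp K) (sr ⟨i, hi⟩) * E hp K r t * (nel (eg hp K) (sr ⟨i, hi⟩))⁻¹ = E hp K (D0.reflectRoot i r) t := by
  have h1 := (dat (K := K) hp hOK).refl ⟨i, hi⟩ _ (isRoot_vec hp M.toCoxeterSystem hr) t
  rw [rep_vec hp M.toCoxeterSystem ⟨i, hi⟩ hr] at h1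
  exact h1

theorem E_move {D : Set ↥(D0.group K)} (h : RT D) (L : List ℕ) (hL : ∀ i ∈ L, i < l) {r : ℕ} (hr : r < D0.nroots)
    {t : K} (ht : E hp K r t ∈ D) :
    L.foldr (fun i s => D0.reflectRoot i s) r < D0.nroots ∧
      E hp K (L.foldr (fun i s => D0.reflectRoot i s) r) t ∈ D := by
  induction L with
  | nil => exact ⟨hr, ht⟩
  | cons i L ih =>
    obtain ⟨h1, h2⟩ := ih fun j hj => hL j (List.mem_cons_of_mem _ hj)
    have hi : i < l := hL i List.mem_cons_self
    have hi' : i < D0.rank := by rw [hp.rank_eq]; exact hi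
    rw [List.foldr_cons]
    refine ⟨reflectRoot_lt hp.inList hi' h1, ?_⟩
    rw [← E_refl hp hOK hi h1 t]
    exact h.conj _ h2 _

variable [Finite K]

theorem E_mem_X {r : ℕ} (hr : r < D0.nroots) (t : K) :
    E hp K r t ∈ (XV D0 l K (vec D0 l r)).subgroupOf (D0.group K) := by
  have hfin := finite_W hp M.toCoxeterSystem
  exact (sys (K := K) hp hOK M.toCoxeterSystem).mem (isRoot_vec hp _ hr) t

/-- the elements of `D` in the centre of `U` -/
theorem mem_star (hZ : Subgroup.center ↥(D0.group K) = ⊥) {z : ↥(D0.group K)}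
    (hz : ∀ a ∈ RGD.Pos M.toCoxeterSystem hp.isCartan, ∀ v ∈ (XV D0 l K a).subgroupOf (D0.group K), v * z = z * v) :
    z ∈ RGD.Sup (fun x => (XV D0 l K x).subgroupOf (D0.group K))
      (star M.toCoxeterSystem hp.isCartan (RGD.Pos M.toCoxeterSystem hp.isCartan)) := by
  have hfin := finite_W hp M.toCoxeterSystem
  have S := sys (K := K) hp hOK M.toCoxeterSystem
  refine S.mem_sup (fun a ha => ha.1) (fun χ hχ => ?_) (G1_eq_top hp _) hZ ?_
  · refine AddMonoidHom.ext fun a => ?_
    have h1 : a ∈ AddSubgroup.closure (Set.range (sr : Fin l → Fin l → ℤ)) := by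
      have h2 : a = ∑ i, a i • sr i := by
        funext j
        rw [Finset.sum_apply]
        simp [sr, Pi.single_apply]
      rw [h2]
      exact sum_mem fun i _ => zsmul_mem (AddSubgroup.subset_closure (Set.mem_range_self i)) _
    have h3 : AddSubgroup.closure (Set.range (sr : Fin l → Fin l → ℤ)) ≤ χ.ker := by
      refine (AddSubgroup.closure_le _).2 ?_
      rintro _ ⟨i, rfl⟩
      refine hχ _ ⟨isRoot_sr _ _ i, ?_⟩
      intro j
      by_cases hj : j = i
      · subst hj; rw [sr_self]; norm_num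
      · rw [sr_ne hj]; rfl
    exact h3 h1
  · intro a ha
    obtain ⟨r, hr, rfl⟩ := (isRoot_iff hp M.toCoxeterSystem a).1 ha.1
    refine ⟨E hp K r 1, E_mem_X hp hOK hr 1, ?_, (hz _ ha _ (E_mem_X hp hOK hr 1)).symm⟩
    exact (dat hp hOK).ne_one (isRoot_vec hp _ hr) one_ne_zero

/-- the dominant roots -/
theorem star_le (L : List ℕ) (hL : (List.range D0.nroots).all (fun r =>
    !((List.range D0.rank).all fun i => decide (0 ≤ D0.cartan i r)) || L.contains r) = true)
    {b : Fin l → ℤ} (hb : b ∈ star M.toCoxeterSystem hp.isCartan (RGD.Pos M.toCoxeterSystem hp.isCartan)) :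
    ∃ r ∈ L, r < D0.nroots ∧ vec D0 l r = b := by
  have hfin := finite_W hp M.toCoxeterSystem
  obtain ⟨r, hr, rfl⟩ := (isRoot_iff hp M.toCoxeterSystem b).1 hb.1
  refine ⟨r, ?_, hr, rfl⟩
  have h1 := List.all_eq_true.1 hL r (List.mem_range.2 hr)
  rw [Bool.or_eq_true] at h1
  rcases h1 with h1 | h1
  · exfalso
    rw [Bool.not_eq_true', ← Bool.not_eq_true] at h1
    apply h1
    rw [List.all_eq_true]
    intro i hi
    rw [List.mem_range, hp.rank_eq] at hi
    rw [decide_eq_true_eq, ← pairing_vec hp ⟨i, hi⟩ hr, ← cpr_sr M.toCoxeterSystem hp.isCartan]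
    refine hb.2 _ ⟨isRoot_sr _ _ _, ?_⟩
    intro j
    by_cases hj : j = ⟨i, hi⟩
    · subst hj; rw [sr_self]; norm_num
    · rw [sr_ne hj]; rfl
  · exact List.contains_iff_mem.1 h1

theorem E_mem_UN {r : ℕ} (hr : r < D0.nroots) (hneg : ∀ i < l, rt D0 r i ≤ 0) (t : K) :
    E hp K r t ∈ UN M.toCoxeterSystem hp.isCartan (fun x => (XV D0 l K x).subgroupOf (D0.group K)) := by
  refine RGD.le_Sup (z := vec D0 l r) ?_ (E_mem_X hp hOK hr t)
  exact ⟨isRoot_vec hp _ hr, fun i => hneg i i.2⟩

/-- one dominant root -/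
theorem noRT_one (hZ : Subgroup.center ↥(D0.group K) = ⊥) {θ nb : ℕ} (hθ : θ < D0.nroots)
    (hdom : (List.range D0.nroots).all (fun r =>
      !((List.range D0.rank).all fun i => decide (0 ≤ D0.cartan i r)) || [θ].contains r) = true)
    (hnb : nb < D0.nroots) (ho : 0 ≤ carB D0 θ nb) (hneg : ∀ i < l, rt D0 nb i ≤ 0) (L : List ℕ)
    (hL : ∀ i ∈ L, i < l) (hw : L.foldr (fun i s => D0.reflectRoot i s) θ = nb) : NoRT ↥(D0.group K) := by
  intro D h hne
  have hfin := finite_W hp M.toCoxeterSystem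
  have S := sys (K := K) hp hOK M.toCoxeterSystem
  obtain ⟨z, hzD, hz⟩ := exists_central_U (rgd (K := K) hp M.toCoxeterSystem 2) (G1_eq_top hp _) h hne
  have h1 := mem_star hp hOK hZ hz
  have h2 : z ∈ (XV D0 l K (vec D0 l θ)).subgroupOf (D0.group K) := by
    refine (RGD.Sup_le fun b hb => ?_ : RGD.Sup _ _ ≤ _) h1
    obtain ⟨r, hr, -, rfl⟩ := star_le hp hOK [θ] hdom hb
    rw [List.mem_singleton] at hr
    rw [hr]
  obtain ⟨t, ht⟩ := (S.mem_X _ (isRoot_vec hp _ hθ) z).1 h2
  have h3 : E hp K θ t ∈ D := by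
    rw [E, ht]; exact hzD
  have h4 := (E_move hp hOK h L hL hθ h3).2
  rw [hw] at h4
  have h5 : Commute (E hp K nb t) z := by
    rw [← ht]
    exact E_comm hp hOK hθ hnb ho t t
  exact false_of_neg (rgd (K := K) hp M.toCoxeterSystem 2) (G1_eq_top hp _) h hzD h4 hz
    (E_mem_UN hp hOK hnb hneg t) h5

/-- `X_a X_b` for commuting root groups -/
def PP {a b : ℕ} (ha : a < D0.nroots) (hb : b < D0.nroots) (hc : 0 ≤ carB D0 b a) : Subgroup ↥(D0.group K) where
  carrier := {g | ∃ t s : K, g = E hp K a t * E hp K b s}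
  mul_mem' := by
    rintro _ _ ⟨t, s, rfl⟩ ⟨t', s', rfl⟩
    refine ⟨t + t', s + s', ?_⟩
    have h1 : E hp K a t' * E hp K b s = E hp K b s * E hp K a t' := E_comm hp hOK hb ha hc t' s
    rw [E_add hp hOK ha, E_add hp hOK hb]
    calc E hp K a t * E hp K b s * (E hp K a t' * E hp K b s')
        = E hp K a t * (E hp K b s * E hp K a t') * E hp K b s' := by group
      _ = _ := by rw [← h1]; group
  one_mem' := ⟨0, 0, by rw [E_zero hp hOK ha, E_zero hp hOK hb, one_mul]⟩
  inv_mem' := by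
    rintro _ ⟨t, s, rfl⟩
    refine ⟨t, s, ?_⟩
    have h1 : E hp K a t * E hp K b s = E hp K b s * E hp K a t := E_comm hp hOK hb ha hc t s
    rw [mul_inv_rev, inv_eq_of_mul_eq_one_right (E_sq hp hOK ha t), inv_eq_of_mul_eq_one_right (E_sq hp hOK hb s), h1]

/-- the second half of the argument, for a dominant root -/
theorem false_of_dom {D : Set ↥(D0.group K)} (h : RT D) {θ nb : ℕ} (hθ : θ < D0.nroots) {t : K}
    (hD : E hp K θ t ∈ D) (hc : ∀ r < D0.nroots, (∀ i < l, 0 ≤ rt D0 r i) → 0 ≤ carB D0 θ r)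
    (hnb : nb < D0.nroots) (ho : 0 ≤ carB D0 θ nb) (hneg : ∀ i < l, rt D0 nb i ≤ 0) (L : List ℕ)
    (hL : ∀ i ∈ L, i < l) (hw : L.foldr (fun i s => D0.reflectRoot i s) θ = nb) : False := by
  have hfin := finite_W hp M.toCoxeterSystem
  have S := sys (K := K) hp hOK M.toCoxeterSystem
  have h4 := (E_move hp hOK h L hL hθ hD).2
  rw [hw] at h4
  refine false_of_neg (rgd (K := K) hp M.toCoxeterSystem 2) (G1_eq_top hp _) h hD h4 ?_
    (E_mem_UN hp hOK hnb hneg t) (E_comm hp hOK hθ hnb ho t t)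
  intro a ha v hv
  obtain ⟨r, hr, rfl⟩ := (isRoot_iff hp M.toCoxeterSystem a).1 ha.1
  obtain ⟨u, rfl⟩ := (S.mem_X _ (isRoot_vec hp _ hr) v).1 hv
  exact E_comm hp hOK hθ hr (hc r hr fun i hi => ha.2 ⟨i, hi⟩) u t

end

end Cfsg.Agent.H335.Chev

private theorem dce_5f258713438e : _root_.True := by
  try have : _root_.True := by simp only [_root_.Cfsg.Agent.H335.Chev.E.eq_1]
  try have : _root_.True := by simp only [_root_.Cfsg.Agent.H335.Chev.E.congr_simp]
  exact _root_.True.intro
end

-- part: H281/RT/RowsLoc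
section
set_option linter.all false
open scoped Cfsg.Agent.FastGrp

/-!
# `NoRT` for `HS`, `Co3` (helper281, for S3126)
-/

set_option autoImplicit false

namespace Cfsg.Agent.H281.RT

open Cfsg Subgroup Cfsg.Agent.H335

universe u

variable {K : Type*} [Group K]

/-- the members of `D` commuting with `z` are in every subgroup containing the `P`-invariant 2-subgroups of `C(z)` -/
theorem mem_core {D : Set K} (hD : RT D) {z : K} (hz : z ∈ D) {P R : Subgroup K} (hP : ∀ x ∈ P, x * z = z * x)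
    (h : ∀ B : Subgroup K, B ≤ centralizer ({z} : Set K) → IsPGroup 2 B → (∀ x ∈ P, ∀ b ∈ B, x * b * x⁻¹ ∈ B) → B ≤ R)
    {y : K} (hy : y ∈ D) (hyz : Commute y z) : y ∈ R := by
  refine h (closure {y | y ∈ D ∧ Commute y z}) ?_ (hD.two z hz) ?_ (subset_closure ⟨hy, hyz⟩)
  · rw [closure_le]
    rintro x ⟨-, hx⟩
    exact mem_centralizer_singleton_iff.2 hx.eq
  · intro x hx b hb
    have hxz : Commute x z := hP x hx
    have h3 : (closure {y | y ∈ D ∧ Commute y z}).map (MulAut.conj x).toMonoidHom ≤ closure {y | y ∈ D ∧ Commute y z} := by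
      rw [map_le_iff_le_comap, closure_le]
      rintro u ⟨hu, huz⟩
      refine subset_closure ⟨hD.conj u hu x, ?_⟩
      change Commute (x * u * x⁻¹) z
      exact (hxz.mul_left huz).mul_left hxz.inv_left
    exact h3 (mem_map_of_mem _ hb)

/-- some member of `D` different from `z` commutes with `z` -/
theorem false_of_isolated [Finite K] [IsSimpleGroup K] (hc : center K = ⊥) {D : Set K} (hD : RT D) {z : K} (hz : z ∈ D)
    (hS : ∃ S : Sylow 2 K, z ∈ S ∧ ∀ x ∈ S, x * z = z * x) (h : ∀ y ∈ D, Commute y z → y = z) : False := by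
  obtain ⟨S, hzS, hS⟩ := hS
  obtain ⟨N, hN, hodd, hNz⟩ := S0215.result S z (hD.inv z hz) hzS (fun g hg => h _ (hD.conj z hz g) (hS _ hg))
  rcases hN.eq_bot_or_eq_top with h1 | h1
  · have h2 : z ∈ center K := by
      rw [mem_center_iff]
      intro g
      have h3 := hNz g
      rw [h1, mem_bot] at h3
      have h4 : z * g * z⁻¹ = g := mul_inv_eq_one.1 h3
      exact (mul_inv_eq_iff_eq_mul.1 h4).symm
    rw [hc, mem_bot] at h2
    exact hD.ne_one hz h2
  · rw [h1, card_top] at hodd
    have h2 : orderOf z ∣ Nat.card K := orderOf_dvd_natCard z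
    rw [hD.inv z hz] at h2
    exact (Nat.not_even_iff_odd.2 hodd) (even_iff_two_dvd.2 h2)

/-- `HS` -/
theorem row_hs (T : Type u) [Group T] [Finite T] (h : Spor.IsoHS T) : NoRT T := by
  obtain ⟨z, v, k, P, R, hs, -⟩ := Cfsg.Agent.KFacts.HS.exists_sheet h
  intro D hD hne
  have hz := mem_of_syl hD hne hs.syl
  have h1 := mem_core hD hz (P := P) hs.basic.cen hs.core (hD.conj_mem' hz k) hs.kz
  exact hs.kP (hs.RP h1)

/-- `Co3` -/
theorem row_co3 (T : Type u) [Group T] [Finite T] (h : Spor.IsoCo3 T) : NoRT T := by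
  have hsim := (Cfsg.Agent.OddHalf.D8.RowCo3.card_of h).1
  have hcen := Cfsg.Agent.OddHalf.D8.RowCo3.center_bot h
  obtain ⟨z, hz⟩ := Cfsg.Agent.KFacts.Co3.Sheet.exists_facts h
  intro D hD hne
  have hzD := mem_of_syl hD hne hz.basic.syl
  obtain ⟨S, hzS, hS, -⟩ := hz.basic.syl
  refine false_of_isolated hcen hD hzD ⟨S, hzS, hS⟩ ?_
  -- normal 2-subgroups of `C(z)` are central
  have hcore : ∀ B : Subgroup T, B ≤ centralizer ({z} : Set T) → IsPGroup 2 B →
      (∀ x ∈ centralizer ({z} : Set T), ∀ b ∈ B, x * b * x⁻¹ ∈ B) → B ≤ zpowers z := by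
    intro B hB hB2 hBn
    have hn : (B.subgroupOf (centralizer ({z} : Set T))).Normal :=
      ⟨fun b hb x => mem_subgroupOf.2 (hBn x x.2 b (mem_subgroupOf.1 hb))⟩
    have h2 : Fact (Nat.Prime 2) := ⟨Nat.prime_two⟩
    have hp : IsPGroup 2 (B.subgroupOf (centralizer ({z} : Set T))) := hB2.comap_subtype
    have hnil : Group.IsNilpotent (B.subgroupOf (centralizer ({z} : Set T))) := hp.isNilpotent
    have hsol : Group.IsSolvable (B.subgroupOf (centralizer ({z} : Set T))) := inferInstance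
    have h3 := Lib.ComponentSolvable.quasisimple_solvable_normal_le_center hz.quasi (N := B.subgroupOf (centralizer ({z} : Set T))) hn hsol
    intro b hb
    have h4 := h3 (x := ⟨b, hB hb⟩) (mem_subgroupOf.2 hb)
    rcases hz.center b (hB hb) (fun y hy => congrArg Subtype.val (mem_center_iff.1 h4 ⟨y, hy⟩)) with h5 | h5
    · rw [h5]; exact one_mem _
    · rw [h5]; exact mem_zpowers z
  intro y hy hyz
  obtain ⟨n, hn⟩ := mem_zpowers_iff.1 (mem_core hD hzD (P := centralizer ({z} : Set T))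
    (fun x hx => mem_centralizer_singleton_iff.1 hx) hcore hy hyz)
  have hzm : ∀ m : ℤ, z ^ m * z ^ m = 1 := by
    intro m
    rw [← (Commute.refl z).mul_zpow, hD.sq hzD, one_zpow]
  rcases Int.even_or_odd n with ⟨m, hm⟩ | ⟨m, hm⟩
  · exfalso
    apply hD.ne_one hy
    rw [← hn, hm, zpow_add, hzm]
  · rw [← hn, hm, zpow_add, zpow_one, two_mul, zpow_add, hzm, one_mul]

end Cfsg.Agent.H281.RT
end
end
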